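import Cfsg.Agent.Mrg.Omega.FrameI
import Cfsg.Agent.ZN.ChoiceSit
import Cfsg.Agent.Mrg.Omega.NOThreeL.Basic
import Cfsg.Agent.Mrg.Omega.All.HOneKer


/-!
# [R-low] (#21762), RC: the module half (#22231 (B), helper535)

`N : NatKM K S P U D k`, `U = ⟨Z^P⟩`, `D` not necessarily centralised by `S` (nonsplit modules, field automorphisms):

* `Pre.uni` (UNI) : `g ∈ P` trivial on `U / D` and on `D` centralises `U`;
* `Pre.root` : the root elements of `S` centralise the root lines `{u | e u i 1 = 0}`;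
* `StarA` (`Star` for `U = zl S P`, `D = cv S P`, `Z = zc S`) : `R* ≤ U`, an `S`-invariant complement of `D` in the root lines; `Z = (Z ∩ D) × (Z ∩ R*)`; the vectors
  `d r`, `d ∈ Z ∩ D`, `r ∈ R*` of full support, lie in points `Z^g`, `g ∈ P`;
* `Pre.exists_star`, `exists_star`.
-/

set_option autoImplicit false
set_option linter.unusedSectionVars false

namespace Cfsg.Agent.Omega.NOThreeL.RLow.Star

open Subgroup Cfsg Cfsg.Agent.ZN
open Cfsg.Agent.ZN.ChoiceSit (Syl exists_syl syl_conj)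
open Cfsg.Agent.ZN.ChoiceBase (cj mem_cj card_cj isPGroup_cj cj_mono)
open Cfsg.Agent.Omega.FFThm (NatKM ActsSL)
open Cfsg.Agent.Omega.NatPair (ap ap_mul ap_one ap_inv_ap ap_zero' ap_one' ap_inj ext2)
open Cfsg.Agent.Lib.SL2Mat
open scoped Pointwise

universe u

variable {G : Type u} [Group G] {K : Type} [Field K] {k : ℕ}

/-- The hypotheses: `S` Sylow in `P`, `U = ⟨Z^P⟩` elementary abelian, `Z = C_U(S)`, `D ≤ U` invariant under `P`. -/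
structure Pre (S P U D Z : Subgroup G) : Prop where
  syl : Syl S P
  US : U ≤ S
  nU : P ≤ normalizer (U : Set G)
  nD : P ≤ normalizer (D : Set G)
  DU : D ≤ U
  ab : ∀ u ∈ U, ∀ v ∈ U, u * v = v * u
  sq : ∀ u ∈ U, u * u = 1
  ZU : Z ≤ U
  Zc : ∀ t ∈ S, ∀ z ∈ Z, t * z = z * t
  Zm : ∀ u ∈ U, (∀ t ∈ S, t * u = u * t) → u ∈ Z
  gen : ∀ W : Subgroup G, Z ≤ W → P ≤ normalizer (W : Set G) → U ≤ W

variable {S P U D Z : Subgroup G}

namespace Pre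

variable (h : Pre S P U D Z)

include h

theorem SP : S ≤ P := h.syl.1

theorem cU {g v : G} (hg : g ∈ P) (hv : v ∈ U) : g * v * g⁻¹ ∈ U := (mem_normalizer_iff.1 (h.nU hg) v).1 hv

theorem cU' {g v : G} (hg : g ∈ P) (hv : v ∈ U) : g⁻¹ * v * g ∈ U := by
  have h1 := h.cU (P.inv_mem hg) hv
  rwa [inv_inv] at h1

theorem cD {g v : G} (hg : g ∈ P) (hv : v ∈ D) : g * v * g⁻¹ ∈ D := (mem_normalizer_iff.1 (h.nD hg) v).1 hv

theorem inv_eq {u : G} (hu : u ∈ U) : u⁻¹ = u := inv_eq_of_mul_eq_one_left (h.sq u hu)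

variable (N : NatKM K S P U D k)

theorem e_one : N.e 1 = 0 := (N.ker 1 U.one_mem).2 D.one_mem

theorem e_inv {u : G} (hu : u ∈ U) : N.e u⁻¹ = -N.e u := by
  have h1 := N.mul u hu u⁻¹ (U.inv_mem hu)
  rw [mul_inv_cancel, h.e_one N] at h1
  exact (neg_eq_of_add_eq_zero_right h1.symm).symm

theorem e_add_self {u : G} (hu : u ∈ U) : N.e u + N.e u = 0 := by
  rw [← N.mul u hu u hu, h.sq u hu, h.e_one N]

/-- two elements of `U` with the same coordinates differ by an element of `D` -/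
theorem e_eq_iff {u v : G} (hu : u ∈ U) (hv : v ∈ U) : N.e u = N.e v ↔ u * v⁻¹ ∈ D := by
  rw [← N.ker _ (U.mul_mem hu (U.inv_mem hv)), N.mul u hu _ (U.inv_mem hv), h.e_inv N hv, add_neg_eq_zero]

end Pre

/-! ### (UNI) -/

/-- The elements of `P` which are trivial on `U / D` and on `D`. -/
def Un (N : NatKM K S P U D k) (g : G) : Prop :=
  g ∈ P ∧ (∀ v ∈ U, N.e (g * v * g⁻¹) = N.e v) ∧ ∀ d ∈ D, g * d = d * g

namespace Pre

variable (h : Pre S P U D Z) (N : NatKM K S P U D k)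

include h

theorem un_mul {g g' : G} (hg : Un N g) (hg' : Un N g') : Un N (g * g') := by
  refine ⟨P.mul_mem hg.1 hg'.1, fun v hv => ?_, fun d hd => ?_⟩
  · have e1 : g * g' * v * (g * g')⁻¹ = g * (g' * v * g'⁻¹) * g⁻¹ := by group
    rw [e1, hg.2.1 _ (h.cU hg'.1 hv), hg'.2.1 v hv]
  · rw [mul_assoc, hg'.2.2 d hd, ← mul_assoc, hg.2.2 d hd, mul_assoc]

theorem un_inv {g : G} (hg : Un N g) : Un N g⁻¹ := by
  refine ⟨P.inv_mem hg.1, fun v hv => ?_, fun d hd => ?_⟩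
  · have h1 := hg.2.1 _ (h.cU (P.inv_mem hg.1) hv)
    have e1 : g * (g⁻¹ * v * g⁻¹⁻¹) * g⁻¹ = v := by group
    rw [e1] at h1
    exact h1.symm
  · have h1 := hg.2.2 d hd
    calc g⁻¹ * d = g⁻¹ * (d * g) * g⁻¹ := by group
      _ = g⁻¹ * (g * d) * g⁻¹ := by rw [h1]
      _ = d * g⁻¹ := by group

theorem un_one : Un N (1 : G) := ⟨P.one_mem, fun v _ => by simp, fun d _ => by simp⟩

/-- the subgroup of all these elements -/
def unS : Subgroup G where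
  carrier := {g | Un N g}
  mul_mem' := fun ha hb => h.un_mul N ha hb
  one_mem' := h.un_one N
  inv_mem' := fun ha => h.un_inv N ha

theorem mem_unS {g : G} : g ∈ h.unS N ↔ Un N g := Iff.rfl

theorem unS_le : h.unS N ≤ P := fun _ hg => hg.1

theorem un_conj {p g : G} (hp : p ∈ P) (hg : Un N g) : Un N (p * g * p⁻¹) := by
  refine ⟨P.mul_mem (P.mul_mem hp hg.1) (P.inv_mem hp), fun v hv => ?_, fun d hd => ?_⟩
  · have hv' := h.cU' hp hv
    have h1 : g * (p⁻¹ * v * p) * g⁻¹ * (p⁻¹ * v * p)⁻¹ ∈ D :=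
      (h.e_eq_iff N (h.cU hg.1 hv') hv').1 (hg.2.1 _ hv')
    have h2 := h.cD hp h1
    have e1 : p * (g * (p⁻¹ * v * p) * g⁻¹ * (p⁻¹ * v * p)⁻¹) * p⁻¹ =
        p * g * p⁻¹ * v * (p * g * p⁻¹)⁻¹ * v⁻¹ := by group
    rw [e1] at h2
    exact (h.e_eq_iff N (h.cU (P.mul_mem (P.mul_mem hp hg.1) (P.inv_mem hp)) hv) hv).2 h2
  · have h1 := hg.2.2 _ (h.cD (P.inv_mem hp) hd)
    rw [inv_inv] at h1
    calc p * g * p⁻¹ * d = p * (g * (p⁻¹ * d * p)) * p⁻¹ := by group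
      _ = p * (p⁻¹ * d * p * g) * p⁻¹ := by rw [h1]
      _ = d * (p * g * p⁻¹) := by group

/-- the commutator lies in `D` -/
theorem un_comm {g v : G} (hg : Un N g) (hv : v ∈ U) : g * v * g⁻¹ * v⁻¹ ∈ D :=
  (h.e_eq_iff N (h.cU hg.1 hv) hv).1 (hg.2.1 v hv)

/-- `g²` is trivial on `U` -/
theorem un_sq {g v : G} (hg : Un N g) (hv : v ∈ U) : g * g * v = v * (g * g) := by
  set d := g * v * g⁻¹ * v⁻¹ with hd
  have hdD : d ∈ D := h.un_comm N hg hv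
  have e1 : g * v * g⁻¹ = d * v := by rw [hd]; group
  have e2 : g * g * v * (g * g)⁻¹ = v := by
    calc g * g * v * (g * g)⁻¹ = g * (g * v * g⁻¹) * g⁻¹ := by group
      _ = g * (d * v) * g⁻¹ := by rw [e1]
      _ = g * d * (v * g⁻¹) := by group
      _ = d * g * (v * g⁻¹) := by rw [hg.2.2 d hdD]
      _ = d * (g * v * g⁻¹) := by group
      _ = d * (d * v) := by rw [e1]
      _ = d * d * v := by group
      _ = v := by rw [h.sq d (h.DU hdD), one_mul]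
  calc g * g * v = g * g * v * (g * g)⁻¹ * (g * g) := by group
    _ = v * (g * g) := by rw [e2]

/-- conjugates under `Un` act in the same way -/
theorem un_conj_act {p g v : G} (hp : Un N p) (hg : Un N g) (hv : v ∈ U) :
    p * g * p⁻¹ * v * (p * g * p⁻¹)⁻¹ = g * v * g⁻¹ := by
  set a := p⁻¹ * v * p⁻¹⁻¹ * v⁻¹ with ha
  have haD : a ∈ D := h.un_comm N (h.un_inv N hp) hv
  set d := g * v * g⁻¹ * v⁻¹ with hd
  have hdD : d ∈ D := h.un_comm N hg hv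
  have e1 : p⁻¹ * v * p = a * v := by rw [ha]; group
  have e2 : g * v * g⁻¹ = d * v := by rw [hd]; group
  have e3 : p * (a * v) * p⁻¹ = v := by rw [← e1]; group
  calc p * g * p⁻¹ * v * (p * g * p⁻¹)⁻¹ = p * (g * (p⁻¹ * v * p) * g⁻¹) * p⁻¹ := by group
    _ = p * (g * (a * v) * g⁻¹) * p⁻¹ := by rw [e1]
    _ = p * (g * a * (v * g⁻¹)) * p⁻¹ := by group
    _ = p * (a * g * (v * g⁻¹)) * p⁻¹ := by rw [hg.2.2 a haD]
    _ = p * (a * (g * v * g⁻¹)) * p⁻¹ := by group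
    _ = p * (a * (d * v)) * p⁻¹ := by rw [e2]
    _ = p * (a * d * v) * p⁻¹ := by group
    _ = p * (d * a * v) * p⁻¹ := by rw [h.ab a (h.DU haD) d (h.DU hdD)]
    _ = p * d * (a * v * p⁻¹) := by group
    _ = d * p * (a * v * p⁻¹) := by rw [hp.2.2 d hdD]
    _ = d * (p * (a * v) * p⁻¹) := by group
    _ = g * v * g⁻¹ := by rw [e3, e2]

variable [Finite G]

/-- the 2-elements of `Un` centralise `Z` -/
theorem un_two {g : G} (hg : Un N g) (h2 : IsPGroup 2 (zpowers g)) : ∀ z ∈ Z, g * z * g⁻¹ = z := by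
  have hgz : zpowers g ≤ h.unS N := zpowers_le.2 hg
  obtain ⟨T₁, hT₁, hg1⟩ := exists_syl h2 hgz
  have hQ2 : IsPGroup 2 ↥(S ⊓ h.unS N) := h.syl.2.1.to_le inf_le_left
  obtain ⟨T₄, hT₄, hQ4⟩ := exists_syl hQ2 (X := h.unS N) inf_le_right
  -- a conjugate of `T₁` is in `S`
  obtain ⟨T₂, hT₂, h12⟩ := exists_syl hT₁.2.1 (hT₁.1.trans (h.unS_le N))
  obtain ⟨p, hp, hps⟩ := syl_conj hT₂ h.syl
  have h3 : cj p T₁ ≤ S ⊓ h.unS N := by
    refine le_inf ((cj_mono p h12).trans hps.le) fun x hx => ?_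
    have h4 : p⁻¹ * x * p ∈ T₁ := mem_cj.1 hx
    have h5 := h.un_conj N hp (hT₁.1 h4)
    have e1 : p * (p⁻¹ * x * p) * p⁻¹ = x := by group
    rwa [e1] at h5
  obtain ⟨u, hu, hu1⟩ := syl_conj hT₁ hT₄
  have hc : Nat.card T₄ = Nat.card T₁ := by rw [← hu1, card_cj]
  have hQ : S ⊓ h.unS N = T₄ := by
    refine Subgroup.eq_of_le_of_card_ge hQ4 ?_
    rw [hc, ← card_cj p T₁]
    exact Subgroup.card_le_of_le h3
  have hgu : u * g * u⁻¹ ∈ S := by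
    have h6 : u * g * u⁻¹ ∈ T₄ := by
      rw [← hu1, mem_cj]
      have e1 : u⁻¹ * (u * g * u⁻¹) * u = g := by group
      rw [e1]
      exact hg1 (mem_zpowers g)
    rw [← hQ] at h6
    exact h6.1
  intro z hz
  rw [← h.un_conj_act N hu hg (h.ZU hz), h.Zc _ hgu z hz]
  group

/-- all elements of `Un` centralise `Z` -/
theorem un_Z {g : G} (hg : Un N g) : ∀ z ∈ Z, g * z = z * g := by
  -- `g^m` is a 2-element and acts as `g` for a suitable odd `m`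
  intro z hz
  obtain ⟨a, m, hm, ho⟩ : ∃ a m : ℕ, Odd m ∧ orderOf g = 2 ^ a * m := by
    obtain ⟨a, m, hm, ho⟩ := Nat.exists_eq_two_pow_mul_odd (orderOf_pos g).ne'
    exact ⟨a, m, hm, ho⟩
  have h1 : Un N (g ^ m) := (h.unS N).pow_mem hg m
  have h2 : IsPGroup 2 (zpowers (g ^ m)) := by
    refine IsPGroup.of_card (n := a) ?_
    rw [Nat.card_zpowers, orderOf_pow' g (Nat.pos_of_ne_zero (by rintro rfl; simp at hm)).ne', ho,
      Nat.gcd_eq_right (Dvd.intro_left _ rfl), Nat.mul_div_cancel _ (Nat.pos_of_ne_zero (by rintro rfl; simp at hm))]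
  have h3 := h.un_two N h1 h2 z hz
  obtain ⟨j, rfl⟩ := hm
  have h4 : ∀ j : ℕ, ∀ v ∈ U, (g * g) ^ j * v = v * (g * g) ^ j := by
    intro j
    induction j with
    | zero => intro v _; simp
    | succ j ih =>
      intro v hv
      rw [pow_succ, mul_assoc, h.un_sq N hg hv, ← mul_assoc, ih v hv, mul_assoc]
  have e1 : g ^ (2 * j + 1) = g * (g * g) ^ j := by
    rw [pow_succ', pow_mul, pow_two]
  have e2 : g * z * g⁻¹ = z := by
    calc g * z * g⁻¹ = g * (z * (g * g) ^ j) * ((g * g) ^ j)⁻¹ * g⁻¹ := by group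
      _ = g * ((g * g) ^ j * z) * ((g * g) ^ j)⁻¹ * g⁻¹ := by rw [h4 j z (h.ZU hz)]
      _ = g ^ (2 * j + 1) * z * (g ^ (2 * j + 1))⁻¹ := by rw [e1]; group
      _ = z := h3
  calc g * z = g * z * g⁻¹ * g := by group
    _ = z * g := by rw [e2]

/-- **(UNI)** -/
theorem uni {g : G} (hg : Un N g) : ∀ u ∈ U, g * u = u * g := by
  let W : Subgroup G := U ⊓ centralizer (h.unS N : Set G)
  have h1 : Z ≤ W := by
    refine le_inf h.ZU fun z hz => mem_centralizer_iff.2 fun x hx => ?_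
    exact h.un_Z N hx z hz
  have h2 : P ≤ normalizer (W : Set G) := by
    intro p hp
    have key : ∀ p ∈ P, ∀ w ∈ W, p * w * p⁻¹ ∈ W := by
      intro p hp w hw
      refine ⟨h.cU hp hw.1, mem_centralizer_iff.2 fun x hx => ?_⟩
      have h3 : p⁻¹ * x * p ∈ h.unS N := by
        have h4 := h.un_conj N (P.inv_mem hp) hx
        rwa [inv_inv] at h4
      have h5 := (mem_centralizer_iff.1 hw.2) _ h3
      calc x * (p * w * p⁻¹) = p * (p⁻¹ * x * p * w) * p⁻¹ := by group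
        _ = p * (w * (p⁻¹ * x * p)) * p⁻¹ := by rw [h5]
        _ = p * w * p⁻¹ * x := by group
    rw [mem_normalizer_iff]
    intro w
    refine ⟨fun hw => key p hp w hw, fun hw => ?_⟩
    have h6 := key p⁻¹ (P.inv_mem hp) _ hw
    have e1 : p⁻¹ * (p * w * p⁻¹) * p⁻¹⁻¹ = w := by group
    rwa [e1] at h6
  intro u hu
  exact (mem_centralizer_iff.1 (h.gen W h1 h2 hu).2) g hg

/-- two elements of `P` with the same action on `U / D` and on `D` act in the same way on `U` -/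
theorem uni₂ {g g' : G} (hg : g ∈ P) (hg' : g' ∈ P) (h1 : ∀ v ∈ U, N.e (g * v * g⁻¹) = N.e (g' * v * g'⁻¹))
    (h2 : ∀ d ∈ D, g * d = d * g) (h3 : ∀ d ∈ D, g' * d = d * g') : ∀ v ∈ U, g * v * g⁻¹ = g' * v * g'⁻¹ := by
  have h4 : Un N (g'⁻¹ * g) := by
    refine ⟨P.mul_mem (P.inv_mem hg') hg, fun v hv => ?_, fun d hd => ?_⟩
    · have h5 := (h.e_eq_iff N (h.cU hg hv) (h.cU hg' hv)).1 (h1 v hv)
      have h6 := h.cD (P.inv_mem hg') h5
      have e1 : g'⁻¹ * (g * v * g⁻¹ * (g' * v * g'⁻¹)⁻¹) * g'⁻¹⁻¹ = g'⁻¹ * g * v * (g'⁻¹ * g)⁻¹ * v⁻¹ := by group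
      rw [e1] at h6
      exact (h.e_eq_iff N (h.cU (P.mul_mem (P.inv_mem hg') hg) hv) hv).2 h6
    · have h7 := h3 d hd
      calc g'⁻¹ * g * d = g'⁻¹ * (g * d) := by group
        _ = g'⁻¹ * (d * g) := by rw [h2 d hd]
        _ = g'⁻¹ * (d * g') * (g'⁻¹ * g) := by group
        _ = g'⁻¹ * (g' * d) * (g'⁻¹ * g) := by rw [h7]
        _ = d * (g'⁻¹ * g) := by group
  intro v hv
  have h5 := h.uni N h4 v hv
  calc g * v * g⁻¹ = g' * (g'⁻¹ * g * v) * g⁻¹ := by group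
    _ = g' * (v * (g'⁻¹ * g)) * g⁻¹ := by rw [h5]
    _ = g' * v * g'⁻¹ := by group

end Pre

/-! ### The root lines and (ROOT) -/

/-- `A B = up c · (B A)` for upper triangular `A`, `B`. -/
theorem exists_up_comm (A B : Matrix.SpecialLinearGroup (Fin 2) K) (hA : ent A 1 0 = 0) (hB : ent B 1 0 = 0) :
    ∃ c, A * B = up c * (B * A) := by
  have dA := det_eq A
  have dB := det_eq B
  rw [hA, mul_zero, sub_zero] at dA
  rw [hB, mul_zero, sub_zero] at dB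
  refine ⟨(ent A 0 0 * ent B 0 1 + ent A 0 1 * ent B 1 1 - ent B 0 0 * ent A 0 1 - ent B 0 1 * ent A 1 1) *
    (ent A 0 0 * ent B 0 0), ?_⟩
  apply ext_ent
  · simp only [ent_mul, up_00, up_01, hA, hB]; ring
  · simp only [ent_mul, up_00, up_01, hB]
    linear_combination (ent A 0 0 * ent B 0 1 + ent A 0 1 * ent B 1 1 - ent B 0 0 * ent A 0 1 - ent B 0 1 * ent A 1 1) *
      (-(ent B 0 0 * ent B 1 1) * dA - dB)
  · simp only [ent_mul, up_10, up_11, hA, hB]; ring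
  · simp only [ent_mul, up_10, up_11, hA, hB]; ring

namespace Pre

variable (h : Pre S P U D Z) (N : NatKM K S P U D k)

include h

theorem acts_mul {g g' : G} {A B : Fin k → Matrix.SpecialLinearGroup (Fin 2) K} (hg' : g' ∈ P)
    (h1 : ActsSL N.e U D g A) (h2 : ActsSL N.e U D g' B) : ActsSL N.e U D (g * g') (A * B) := by
  refine ⟨fun v hv i => ?_, fun d hd => ?_⟩
  · have e1 : g * g' * v * (g * g')⁻¹ = g * (g' * v * g'⁻¹) * g⁻¹ := by group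
    rw [e1, h1.1 _ (h.cU hg' hv), h2.1 v hv, Pi.mul_apply, ap_mul]
  · rw [mul_assoc, h2.2 d hd, ← mul_assoc, h1.2 d hd, mul_assoc]

theorem acts_inv {g : G} {A : Fin k → Matrix.SpecialLinearGroup (Fin 2) K} (hg : g ∈ P)
    (h1 : ActsSL N.e U D g A) : ActsSL N.e U D g⁻¹ A⁻¹ := by
  refine ⟨fun v hv i => ?_, fun d hd => ?_⟩
  · have h2 := h1.1 _ (h.cU (P.inv_mem hg) hv) i
    have e1 : g * (g⁻¹ * v * g⁻¹⁻¹) * g⁻¹ = v := by group
    rw [e1] at h2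
    rw [h2, Pi.inv_apply, ap_inv_ap]
  · have h2 := h1.2 d hd
    calc g⁻¹ * d = g⁻¹ * (d * g) * g⁻¹ := by group
      _ = g⁻¹ * (g * d) * g⁻¹ := by rw [h2]
      _ = d * g⁻¹ := by group

theorem acts_eq [Finite G] {g g' : G} {A : Fin k → Matrix.SpecialLinearGroup (Fin 2) K} (hg : g ∈ P) (hg' : g' ∈ P)
    (h1 : ActsSL N.e U D g A) (h2 : ActsSL N.e U D g' A) : ∀ v ∈ U, g * v * g⁻¹ = g' * v * g'⁻¹ := by
  refine h.uni₂ N hg hg' (fun v hv => ?_) h1.2 h2.2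
  funext i
  rw [h1.1 v hv, h2.1 v hv]

theorem Z_line {z : G} (hz : z ∈ Z) (i : Fin k) : N.e z i 1 = 0 := by
  obtain ⟨t, ht, h1⟩ := N.unip fun _ => 1
  have h2 := congrFun (h1.1 z (h.ZU hz) i) 0
  have e1 : t * z * t⁻¹ = z := by rw [h.Zc t ht z hz]; group
  rw [e1, ap_zero', up_00, up_01, one_mul, one_mul] at h2
  exact left_eq_add.1 h2

/-- a full vector of `Z` -/
theorem exists_full (hk : 0 < k) : ∃ z ∈ Z, ∀ i, N.e z i 0 ≠ 0 := by
  obtain ⟨z, hz, hzD⟩ : ∃ z ∈ Z, z ∉ D := by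
    by_contra hno
    push Not at hno
    have h1 := h.gen D hno h.nD
    obtain ⟨v, hv, he⟩ := N.surj fun _ _ => 1
    have h2 := congrFun (congrFun ((N.ker v hv).2 (h1 hv)) ⟨0, hk⟩) 0
    rw [he] at h2
    exact one_ne_zero h2
  refine ⟨z, hz, fun i hi => hzD ?_⟩
  have h3 : N.e z i = 0 := ext2 hi (h.Z_line N hz i)
  rw [← N.ker z (h.ZU hz)]
  funext j
  obtain ⟨t, ht, h4⟩ := N.trans i j
  have e1 : t * z * t⁻¹ = z := by rw [h.Zc t ht z hz]; group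
  have h5 := (h4 z (h.ZU hz)).2 h3
  rwa [e1] at h5

/-- the root lines (with `D`) -/
def rl : Subgroup G where
  carrier := {u | u ∈ U ∧ ∀ i, N.e u i 1 = 0}
  mul_mem' := by
    rintro a b ⟨ha, ha1⟩ ⟨hb, hb1⟩
    refine ⟨U.mul_mem ha hb, fun i => ?_⟩
    rw [N.mul a ha b hb, Pi.add_apply, Pi.add_apply, ha1, hb1, add_zero]
  one_mem' := ⟨U.one_mem, fun i => by rw [h.e_one N]; rfl⟩
  inv_mem' := by
    rintro a ⟨ha, ha1⟩
    refine ⟨U.inv_mem ha, fun i => ?_⟩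
    rw [h.e_inv N ha, Pi.neg_apply, Pi.neg_apply, ha1, neg_zero]

theorem mem_rl {u : G} : u ∈ h.rl N ↔ u ∈ U ∧ ∀ i, N.e u i 1 = 0 := Iff.rfl

theorem rl_le : h.rl N ≤ U := fun _ hu => hu.1

theorem D_le_rl : D ≤ h.rl N := fun d hd =>
  ⟨h.DU hd, fun i => by rw [(N.ker d (h.DU hd)).2 hd]; rfl⟩

theorem rl_conj {t u : G} (ht : t ∈ S) (hu : u ∈ h.rl N) : t * u * t⁻¹ ∈ h.rl N := by
  obtain ⟨σ, h1⟩ := N.line t ht
  refine ⟨h.cU (h.SP ht) hu.1, fun j => ?_⟩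
  obtain ⟨i, rfl⟩ := σ.surjective j
  exact (h1 u hu.1 i).2 (hu.2 i)

variable [Finite G]

/-- **(ROOT)**, full vectors -/
theorem root_full {t r z : G} {b : Fin k → K} (htS : t ∈ S) (ht : ActsSL N.e U D t fun i => up (b i))
    (hr : r ∈ h.rl N) (hz : z ∈ Z) (hz0 : ∀ i, N.e z i 0 ≠ 0) (hr0 : ∀ i, N.e r i 0 ≠ 0) : t * r = r * t := by
  have hl0 : ∀ i, N.e r i 0 / N.e z i 0 ≠ 0 := fun i => div_ne_zero (hr0 i) (hz0 i)
  obtain ⟨g, hg, hgA⟩ := N.lift fun i => dg (N.e r i 0 / N.e z i 0) (hl0 i)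
  have hzU := h.ZU hz
  -- `g z g⁻¹` and `r` have the same coordinates
  have h1 : N.e (g * z * g⁻¹) = N.e r := by
    funext i
    rw [hgA.1 z hzU i]
    apply ext2
    · rw [ap_zero', dg_00, dg_01, zero_mul, add_zero, div_mul_cancel₀ _ (hz0 i)]
    · rw [ap_one', dg_10, dg_11, zero_mul, zero_add, h.Z_line N hz i, mul_zero, hr.2 i]
  have h2 : r * (g * z * g⁻¹)⁻¹ ∈ D := (h.e_eq_iff N hr.1 (h.cU hg hzU)).1 h1.symm
  -- `g⁻¹ t g` acts as a root element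
  obtain ⟨s, hs, hsA⟩ := N.unip fun i => (N.e r i 0 / N.e z i 0)⁻¹ ^ 2 * b i
  have h3 : ActsSL N.e U D (g⁻¹ * t * g) fun i => up ((N.e r i 0 / N.e z i 0)⁻¹ ^ 2 * b i) := by
    have h4 := h.acts_mul N hg (h.acts_mul N (h.SP htS) (h.acts_inv N hg hgA) ht) hgA
    have h5 : ((fun i => dg (N.e r i 0 / N.e z i 0) (hl0 i))⁻¹ * (fun i => up (b i)) *
        fun i => dg (N.e r i 0 / N.e z i 0) (hl0 i)) = fun i => up ((N.e r i 0 / N.e z i 0)⁻¹ ^ 2 * b i) := by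
      funext i
      rw [Pi.mul_apply, Pi.mul_apply, Pi.inv_apply, mul_assoc, inv_mul_eq_iff_eq_mul, dg_up]
      congr 2
      have hl0i := hl0 i
      have hzi := hz0 i
      have hri := hr0 i
      field_simp
    rwa [h5] at h4
  have h6 := h.acts_eq N (P.mul_mem (P.mul_mem (P.inv_mem hg) (h.SP htS)) hg) (h.SP hs) h3 hsA z hzU
  have e2 : s * z * s⁻¹ = z := by rw [h.Zc s hs z hz]; group
  rw [e2] at h6
  have h7 : t * (g * z * g⁻¹) = g * z * g⁻¹ * t := by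
    have e3 : g * (g⁻¹ * t * g * z * (g⁻¹ * t * g)⁻¹) * g⁻¹ = t * (g * z * g⁻¹) * t⁻¹ := by group
    rw [h6] at e3
    calc t * (g * z * g⁻¹) = t * (g * z * g⁻¹) * t⁻¹ * t := by group
      _ = g * z * g⁻¹ * t := by rw [← e3]
  have h8 := ht.2 _ h2
  calc t * r = t * (r * (g * z * g⁻¹)⁻¹) * (g * z * g⁻¹) := by group
    _ = r * (g * z * g⁻¹)⁻¹ * (t * (g * z * g⁻¹)) := by rw [h8]; group
    _ = r * t := by rw [h7]; group

/-- **(ROOT)** -/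
theorem root (hk : 0 < k) (hq : ∀ a : K, ∃ x, x ≠ 0 ∧ x ≠ a) {t r : G} {b : Fin k → K} (htS : t ∈ S)
    (ht : ActsSL N.e U D t fun i => up (b i)) (hr : r ∈ h.rl N) : t * r = r * t := by
  obtain ⟨z, hz, hz0⟩ := h.exists_full N hk
  choose x hx0 hx using fun i => hq (N.e r i 0)
  obtain ⟨r₁, hr₁, he⟩ := N.surj fun i => ![x i, 0]
  have h1 : r₁ ∈ h.rl N := ⟨hr₁, fun i => by rw [he]; rfl⟩
  have h2 : r₁⁻¹ * r ∈ h.rl N := (h.rl N).mul_mem ((h.rl N).inv_mem h1) hr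
  have h3 : ∀ i, N.e r₁ i 0 ≠ 0 := fun i => by rw [he]; exact hx0 i
  have h4 : ∀ i, N.e (r₁⁻¹ * r) i 0 ≠ 0 := by
    intro i h5
    rw [N.mul _ (U.inv_mem hr₁) r hr.1, h.e_inv N hr₁, he, Pi.add_apply, Pi.add_apply, Pi.neg_apply,
      Pi.neg_apply] at h5
    exact hx i (neg_add_eq_zero.1 h5)
  have h5 := h.root_full N htS ht h1 hz hz0 h3
  have h6 := h.root_full N htS ht h2 hz hz0 h4
  calc t * r = t * r₁ * (r₁⁻¹ * r) := by group
    _ = r₁ * (t * (r₁⁻¹ * r)) := by rw [h5]; group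
    _ = r * t := by rw [h6]; group

end Pre

/-! ### The Borel elements -/

/-- `g ∈ P` acts on `U / D` as upper triangular matrices `A` and trivially on `D`. -/
structure Bo (N : NatKM K S P U D k) (g : G) (A : Fin k → Matrix.SpecialLinearGroup (Fin 2) K) : Prop where
  mem : g ∈ P
  act : ActsSL N.e U D g A
  tri : ∀ i, ent (A i) 1 0 = 0

namespace Pre

variable (h : Pre S P U D Z) (N : NatKM K S P U D k)

include h

theorem bo_rl {g r : G} {A : Fin k → Matrix.SpecialLinearGroup (Fin 2) K} (hg : Bo N g A) (hr : r ∈ h.rl N) :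
    g * r * g⁻¹ ∈ h.rl N := by
  refine ⟨h.cU hg.mem hr.1, fun i => ?_⟩
  rw [hg.act.1 r hr.1 i, ap_one', hg.tri i, hr.2 i, zero_mul, mul_zero, add_zero]

theorem bo_e {g r : G} {A : Fin k → Matrix.SpecialLinearGroup (Fin 2) K} (hg : Bo N g A) (hr : r ∈ h.rl N)
    (i : Fin k) : N.e (g * r * g⁻¹) i 0 = ent (A i) 0 0 * N.e r i 0 := by
  rw [hg.act.1 r hr.1 i, ap_zero', hr.2 i, mul_zero, add_zero]

theorem bo_mul {g g' : G} {A B : Fin k → Matrix.SpecialLinearGroup (Fin 2) K} (hg : Bo N g A) (hg' : Bo N g' B) :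
    Bo N (g * g') (A * B) := by
  refine ⟨P.mul_mem hg.mem hg'.mem, h.acts_mul N hg'.mem hg.act hg'.act, fun i => ?_⟩
  rw [Pi.mul_apply, ent_mul, hg.tri i, hg'.tri i, zero_mul, mul_zero, add_zero]

theorem bo_conj {t g : G} {A : Fin k → Matrix.SpecialLinearGroup (Fin 2) K} (ht : t ∈ S) (hg : Bo N g A) :
    ∃ B, Bo N (t * g * t⁻¹) B := by
  have htP := h.SP ht
  obtain ⟨B, hB⟩ := N.norm t htP g hg.mem A hg.act.1
  refine ⟨B, P.mul_mem (P.mul_mem htP hg.mem) (P.inv_mem htP), ⟨hB, fun d hd => ?_⟩, fun i => ?_⟩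
  · have h1 := hg.act.2 _ (h.cD (P.inv_mem htP) hd)
    rw [inv_inv] at h1
    calc t * g * t⁻¹ * d = t * (g * (t⁻¹ * d * t)) * t⁻¹ := by group
      _ = t * (t⁻¹ * d * t * g) * t⁻¹ := by rw [h1]
      _ = d * (t * g * t⁻¹) := by group
  · obtain ⟨v, hv, he⟩ := N.surj fun _ => ![1, 0]
    have h2 : v ∈ h.rl N := ⟨hv, fun i => by rw [he]; rfl⟩
    have h3 : t * g * t⁻¹ * v * (t * g * t⁻¹)⁻¹ ∈ h.rl N := by
      have h4 := h.rl_conj N ht (h.bo_rl N hg (h.rl_conj N (S.inv_mem ht) h2))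
      have e1 : t * (g * (t⁻¹ * v * t⁻¹⁻¹) * g⁻¹) * t⁻¹ = t * g * t⁻¹ * v * (t * g * t⁻¹)⁻¹ := by group
      rwa [e1] at h4
    have h5 := h3.2 i
    rw [hB v hv i, ap_one', he] at h5
    simpa using h5

variable [Finite G]

/-- **(ABEL)** : Borel elements commute on the root lines -/
theorem bo_comm (hk : 0 < k) (hq : ∀ a : K, ∃ x, x ≠ 0 ∧ x ≠ a) {g g' r : G}
    {A B : Fin k → Matrix.SpecialLinearGroup (Fin 2) K} (hg : Bo N g A) (hg' : Bo N g' B) (hr : r ∈ h.rl N) :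
    g * g' * r * (g * g')⁻¹ = g' * g * r * (g' * g)⁻¹ := by
  choose c hc using fun i => exists_up_comm (A i) (B i) (hg.tri i) (hg'.tri i)
  obtain ⟨t, ht, htA⟩ := N.unip c
  have h1 := h.bo_mul N hg hg'
  have h2 := h.bo_mul N hg' hg
  have h3 : ActsSL N.e U D (t * (g' * g)) (A * B) := by
    have h4 := h.acts_mul N h2.mem htA h2.act
    have h5 : ((fun i => up (c i)) * (B * A)) = A * B := by
      funext i
      rw [Pi.mul_apply, Pi.mul_apply, Pi.mul_apply, hc i]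
    rwa [h5] at h4
  have h6 := h.acts_eq N h1.mem (P.mul_mem (h.SP ht) h2.mem) h1.act h3 r hr.1
  have h7 := h.root N hk hq ht htA (h.bo_rl N h2 hr)
  calc g * g' * r * (g * g')⁻¹ = t * (g' * g) * r * (t * (g' * g))⁻¹ := h6
    _ = t * (g' * g * r * (g' * g)⁻¹) * t⁻¹ := by group
    _ = g' * g * r * (g' * g)⁻¹ * t * t⁻¹ := by rw [h7]
    _ = g' * g * r * (g' * g)⁻¹ := by group

/-! ### The complement -/

/-- the commutators `[r, c]`, `r` in the root lines -/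
def rs {c : G} {A : Fin k → Matrix.SpecialLinearGroup (Fin 2) K} (hc : Bo N c A) : Subgroup G where
  carrier := {x | ∃ r ∈ h.rl N, x = c * r * c⁻¹ * r⁻¹}
  mul_mem' := by
    rintro _ _ ⟨r, hr, rfl⟩ ⟨s, hs, rfl⟩
    refine ⟨r * s, (h.rl N).mul_mem hr hs, ?_⟩
    have h1 : r⁻¹ * (c * s * c⁻¹ * s⁻¹) = c * s * c⁻¹ * s⁻¹ * r⁻¹ :=
      h.ab _ (U.inv_mem hr.1) _ (U.mul_mem (h.cU hc.mem hs.1) (U.inv_mem hs.1))
    calc c * r * c⁻¹ * r⁻¹ * (c * s * c⁻¹ * s⁻¹) = c * r * c⁻¹ * (r⁻¹ * (c * s * c⁻¹ * s⁻¹)) := by group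
      _ = c * (r * s) * c⁻¹ * (r * s)⁻¹ := by rw [h1]; group
  one_mem' := ⟨1, (h.rl N).one_mem, by group⟩
  inv_mem' := by
    rintro _ ⟨r, hr, rfl⟩
    refine ⟨r⁻¹, (h.rl N).inv_mem hr, ?_⟩
    have h1 : r * (c * r⁻¹ * c⁻¹) = c * r⁻¹ * c⁻¹ * r := h.ab _ hr.1 _ (h.cU hc.mem (U.inv_mem hr.1))
    calc (c * r * c⁻¹ * r⁻¹)⁻¹ = r * (c * r⁻¹ * c⁻¹) := by group
      _ = c * r⁻¹ * c⁻¹ * r⁻¹⁻¹ := by rw [h1, inv_inv]

theorem mem_rs {c x : G} {A : Fin k → Matrix.SpecialLinearGroup (Fin 2) K} (hc : Bo N c A) :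
    x ∈ h.rs N hc ↔ ∃ r ∈ h.rl N, x = c * r * c⁻¹ * r⁻¹ := Iff.rfl

theorem rs_le {c : G} {A : Fin k → Matrix.SpecialLinearGroup (Fin 2) K} (hc : Bo N c A) : h.rs N hc ≤ h.rl N := by
  rintro _ ⟨r, hr, rfl⟩
  exact (h.rl N).mul_mem (h.bo_rl N hc hr) ((h.rl N).inv_mem hr)

theorem rs_e {c r : G} {A : Fin k → Matrix.SpecialLinearGroup (Fin 2) K} (hc : Bo N c A) (hr : r ∈ h.rl N)
    (i : Fin k) : N.e (c * r * c⁻¹ * r⁻¹) i 0 = (ent (A i) 0 0 - 1) * N.e r i 0 := by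
  rw [N.mul _ (h.bo_rl N hc hr).1 _ (U.inv_mem hr.1), h.e_inv N hr.1, Pi.add_apply, Pi.add_apply, Pi.neg_apply,
    Pi.neg_apply, h.bo_e N hc hr]
  ring

/-- elements of the root lines with the same `0`-coordinates differ by an element of `D` -/
theorem rl_div {r s : G} (hr : r ∈ h.rl N) (hs : s ∈ h.rl N) (he : ∀ i, N.e r i 0 = N.e s i 0) : r * s⁻¹ ∈ D := by
  refine (h.e_eq_iff N hr.1 hs.1).1 ?_
  funext i
  exact ext2 (he i) (by rw [hr.2 i, hs.2 i])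

variable {c : G} {A : Fin k → Matrix.SpecialLinearGroup (Fin 2) K} (hc : Bo N c A)

theorem rs_inf (hA : ∀ i, ent (A i) 0 0 ≠ 1) : h.rs N hc ⊓ D = ⊥ := by
  rw [eq_bot_iff]
  rintro _ ⟨⟨r, hr, rfl⟩, hx⟩
  have h1 : N.e (c * r * c⁻¹ * r⁻¹) = 0 := (N.ker _ (h.DU hx)).2 hx
  have h2 : ∀ i, N.e r i 0 = 0 := by
    intro i
    have h3 := h.rs_e N hc hr i
    rw [h1] at h3
    exact (mul_eq_zero.1 h3.symm).resolve_left (sub_ne_zero.2 (hA i))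
  have h4 : r ∈ D := by
    rw [← N.ker r hr.1]
    funext i
    exact ext2 (h2 i) (hr.2 i)
  rw [mem_bot, hc.act.2 r h4]
  group

theorem rs_surj (hA : ∀ i, ent (A i) 0 0 ≠ 1) (x : Fin k → K) : ∃ r ∈ h.rs N hc, ∀ i, N.e r i 0 = x i := by
  obtain ⟨r, hr, he⟩ := N.surj fun i => ![(ent (A i) 0 0 - 1)⁻¹ * x i, 0]
  have h1 : r ∈ h.rl N := ⟨hr, fun i => by rw [he]; rfl⟩
  refine ⟨c * r * c⁻¹ * r⁻¹, ⟨r, h1, rfl⟩, fun i => ?_⟩
  have h2 : N.e r i 0 = (ent (A i) 0 0 - 1)⁻¹ * x i := by rw [he]; rfl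
  rw [h.rs_e N hc h1 i, h2, ← mul_assoc, mul_inv_cancel₀ (sub_ne_zero.2 (hA i)), one_mul]

/-- the root lines are `D × R` -/
theorem rs_dec (hA : ∀ i, ent (A i) 0 0 ≠ 1) {r : G} (hr : r ∈ h.rl N) : ∃ d ∈ D, ∃ s ∈ h.rs N hc, r = d * s := by
  obtain ⟨s, hs, he⟩ := h.rs_surj N hc hA fun i => N.e r i 0
  refine ⟨r * s⁻¹, h.rl_div N hr (h.rs_le N hc hs) fun i => (he i).symm, s, hs, by group⟩

theorem rs_ext (hA : ∀ i, ent (A i) 0 0 ≠ 1) {r s : G} (hr : r ∈ h.rs N hc) (hs : s ∈ h.rs N hc)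
    (he : ∀ i, N.e r i 0 = N.e s i 0) : r = s := by
  have h1 : r * s⁻¹ ∈ h.rs N hc ⊓ D :=
    ⟨(h.rs N hc).mul_mem hr ((h.rs N hc).inv_mem hs), h.rl_div N (h.rs_le N hc hr) (h.rs_le N hc hs) he⟩
  rw [h.rs_inf N hc hA, mem_bot] at h1
  exact mul_inv_eq_one.1 h1

/-- Borel elements normalise `R` -/
theorem rs_bo (hk : 0 < k) (hq : ∀ a : K, ∃ x, x ≠ 0 ∧ x ≠ a) {g s : G}
    {B : Fin k → Matrix.SpecialLinearGroup (Fin 2) K} (hg : Bo N g B) (hs : s ∈ h.rs N hc) :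
    g * s * g⁻¹ ∈ h.rs N hc := by
  obtain ⟨r, hr, rfl⟩ := hs
  refine ⟨g * r * g⁻¹, h.bo_rl N hg hr, ?_⟩
  have h1 := h.bo_comm N hk hq hg hc hr
  calc g * (c * r * c⁻¹ * r⁻¹) * g⁻¹ = g * c * r * (g * c)⁻¹ * (g * r * g⁻¹)⁻¹ := by group
    _ = c * g * r * (c * g)⁻¹ * (g * r * g⁻¹)⁻¹ := by rw [h1]
    _ = c * (g * r * g⁻¹) * c⁻¹ * (g * r * g⁻¹)⁻¹ := by group

/-- `[r, g] ∈ R` for every Borel element `g` -/
theorem rs_comm (hA : ∀ i, ent (A i) 0 0 ≠ 1) (hk : 0 < k) (hq : ∀ a : K, ∃ x, x ≠ 0 ∧ x ≠ a) {g r : G}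
    {B : Fin k → Matrix.SpecialLinearGroup (Fin 2) K} (hg : Bo N g B) (hr : r ∈ h.rl N) :
    g * r * g⁻¹ * r⁻¹ ∈ h.rs N hc := by
  obtain ⟨d, hd, s, hs, rfl⟩ := h.rs_dec N hc hA hr
  have h1 := hg.act.2 d hd
  have h2 := h.rs_bo N hc hk hq hg hs
  have h3 : d * (g * s * g⁻¹ * s⁻¹) = g * s * g⁻¹ * s⁻¹ * d :=
    h.ab _ (h.DU hd) _ (h.rs_le N hc ((h.rs N hc).mul_mem h2 ((h.rs N hc).inv_mem hs))).1
  have h4 : g * (d * s) * g⁻¹ * (d * s)⁻¹ = g * s * g⁻¹ * s⁻¹ := by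
    calc g * (d * s) * g⁻¹ * (d * s)⁻¹ = g * d * (s * g⁻¹ * s⁻¹ * d⁻¹) := by group
      _ = d * (g * s * g⁻¹ * s⁻¹) * d⁻¹ := by rw [h1]; group
      _ = g * s * g⁻¹ * s⁻¹ := by rw [h3]; group
  rw [h4]
  exact (h.rs N hc).mul_mem h2 ((h.rs N hc).inv_mem hs)

theorem rs_S (hA : ∀ i, ent (A i) 0 0 ≠ 1) (hk : 0 < k) (hq : ∀ a : K, ∃ x, x ≠ 0 ∧ x ≠ a) {t s : G} (ht : t ∈ S)
    (hs : s ∈ h.rs N hc) : t * s * t⁻¹ ∈ h.rs N hc := by
  obtain ⟨r, hr, rfl⟩ := hs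
  obtain ⟨B, hB⟩ := h.bo_conj N ht hc
  have h1 := h.rs_comm N hc hA hk hq hB (h.rl_conj N ht hr)
  have e1 : t * c * t⁻¹ * (t * r * t⁻¹) * (t * c * t⁻¹)⁻¹ * (t * r * t⁻¹)⁻¹ = t * (c * r * c⁻¹ * r⁻¹) * t⁻¹ := by group
  rwa [e1] at h1

end Pre

/-- `R` is an `S`-invariant complement of `D` in the root lines; `Z = (Z ∩ D)(Z ∩ R)`; the full vectors of `R` lie in
points, with any `d ∈ Z ∩ D`. -/
structure StarA (S P U D Z : Subgroup G) (N : NatKM K S P U D k) (R : Subgroup G) : Prop where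
  le : R ≤ U
  line : ∀ r ∈ R, ∀ i, N.e r i 1 = 0
  surj : ∀ x : Fin k → K, ∃ r ∈ R, ∀ i, N.e r i 0 = x i
  inf : R ⊓ D = ⊥
  nor : S ≤ normalizer (R : Set G)
  dec : ∀ z ∈ Z, ∃ d ∈ Z ⊓ D, ∃ r ∈ Z ⊓ R, z = d * r
  pt : ∀ r ∈ R, (∀ i, N.e r i 0 ≠ 0) → ∀ d ∈ Z ⊓ D, ∃ g ∈ P, d * r ∈ MulAut.conj g • Z

theorem Pre.exists_star [Finite G] (h : Pre S P U D Z) (N : NatKM K S P U D k) (hk : 0 < k)
    (hq : ∀ a : K, ∃ x, x ≠ 0 ∧ x ≠ a) : ∃ R, StarA S P U D Z N R := by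
  obtain ⟨l, hl0, hl1⟩ := hq 1
  obtain ⟨c, hcP, hcA⟩ := N.lift fun _ => dg l hl0
  have hc : Bo N c fun _ => dg l hl0 := ⟨hcP, hcA, fun _ => rfl⟩
  have hA : ∀ i : Fin k, ent ((fun _ : Fin k => dg l hl0) i) 0 0 ≠ 1 := fun _ => hl1
  have hS := fun {t s : G} (ht : t ∈ S) (hs : s ∈ h.rs N hc) => h.rs_S N hc hA hk hq ht hs
  have hdec : ∀ z ∈ Z, ∃ d ∈ Z ⊓ D, ∃ r ∈ Z ⊓ h.rs N hc, z = d * r := by
    intro z hz
    obtain ⟨d, hd, s, hs, rfl⟩ := h.rs_dec N hc hA ⟨h.ZU hz, h.Z_line N hz⟩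
    have h1 : ∀ t ∈ S, t * s * t⁻¹ = s := by
      intro t ht
      have h2 : t * (d * s) * t⁻¹ = d * s := by rw [h.Zc t ht _ hz]; group
      have h3 : t * s * t⁻¹ * s⁻¹ ∈ h.rs N hc ⊓ D := by
        refine ⟨(h.rs N hc).mul_mem (hS ht hs) ((h.rs N hc).inv_mem hs), ?_⟩
        have h4 := D.mul_mem (D.inv_mem (h.cD (h.SP ht) hd)) hd
        have e1 : (t * d * t⁻¹)⁻¹ * d = t * s * t⁻¹ * s⁻¹ := by
          calc (t * d * t⁻¹)⁻¹ * d = (t * d * t⁻¹)⁻¹ * (d * s) * s⁻¹ := by group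
            _ = (t * d * t⁻¹)⁻¹ * (t * (d * s) * t⁻¹) * s⁻¹ := by rw [h2]
            _ = t * s * t⁻¹ * s⁻¹ := by group
        rwa [e1] at h4
      rw [h.rs_inf N hc hA, mem_bot] at h3
      exact mul_inv_eq_one.1 h3
    have hsZ : s ∈ Z := by
      refine h.Zm s (h.rs_le N hc hs).1 fun t ht => ?_
      calc t * s = t * s * t⁻¹ * t := by group
        _ = s * t := by rw [h1 t ht]
    have hdZ : d ∈ Z := by
      have h5 := Z.mul_mem hz (Z.inv_mem hsZ)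
      rwa [mul_inv_cancel_right] at h5
    exact ⟨d, ⟨hdZ, hd⟩, s, ⟨hsZ, hs⟩, rfl⟩
  refine ⟨h.rs N hc, (h.rs_le N hc).trans (h.rl_le N), fun r hr i => (h.rs_le N hc hr).2 i, h.rs_surj N hc hA,
    h.rs_inf N hc hA, fun t ht => ?_, hdec, fun r hr hr0 d hd => ?_⟩
  · rw [mem_normalizer_iff]
    intro s
    refine ⟨fun hs => hS ht hs, fun hs => ?_⟩
    have h1 := hS (S.inv_mem ht) hs
    have e1 : t⁻¹ * (t * s * t⁻¹) * t⁻¹⁻¹ = s := by group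
    rwa [e1] at h1
  · obtain ⟨z, hz, hz0⟩ := h.exists_full N hk
    obtain ⟨d₀, hd₀, s, hs, hzs⟩ := hdec z hz
    have hs0 : ∀ i, N.e s i 0 ≠ 0 := by
      intro i
      have h1 : N.e z = N.e s := by
        rw [hzs, N.mul _ (h.DU hd₀.2) _ (h.ZU hs.1), (N.ker _ (h.DU hd₀.2)).2 hd₀.2, zero_add]
      rw [← h1]
      exact hz0 i
    obtain ⟨g, hg, hgA⟩ := N.lift fun i => dg (N.e r i 0 / N.e s i 0) (div_ne_zero (hr0 i) (hs0 i))
    have hgB : Bo N g fun i => dg (N.e r i 0 / N.e s i 0) (div_ne_zero (hr0 i) (hs0 i)) := ⟨hg, hgA, fun _ => rfl⟩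
    have h2 := h.rs_bo N hc hk hq hgB hs.2
    have h3 : g * s * g⁻¹ = r := by
      refine h.rs_ext N hc hA h2 hr fun i => ?_
      rw [h.bo_e N hgB (h.rs_le N hc hs.2) i, dg_00, div_mul_cancel₀ _ (hs0 i)]
    refine ⟨g, hg, ?_⟩
    rw [mem_pointwise_smul_iff_inv_smul_mem, ← map_inv, MulAut.smul_def, MulAut.conj_apply, inv_inv]
    have h4 : g⁻¹ * (d * r) * g = d * s := by
      rw [← h3]
      have h5 := hgA.2 d hd.2
      calc g⁻¹ * (d * (g * s * g⁻¹)) * g = g⁻¹ * (d * g) * s := by group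
        _ = d * s := by rw [← h5]; group
    rw [h4]
    exact Z.mul_mem hd.1 hs.1

/-! ### The instance -/

section inst

open Cfsg.Agent.Omega.MinPar
open Cfsg.Agent.Omega.FrameFF (cv)
open Cfsg.Agent.Omega.All.HOne (zl_sq' zl_comm' conjZ conjD)
open Cfsg.Agent.MinSimple.VModule (le_normalizer_zl zc_le_zl zl_le)

/-- `StarA` for `U = zl S P`, `D = cv S P`, `Z = zc S`. -/
structure Star (S P : Subgroup G) (N : NatKM K S P (zl S P) (cv S P) k) (R : Subgroup G) : Prop where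
  le : R ≤ zl S P
  line : ∀ r ∈ R, ∀ i, N.e r i 1 = 0
  surj : ∀ x : Fin k → K, ∃ r ∈ R, ∀ i, N.e r i 0 = x i
  inf : R ⊓ cv S P = ⊥
  nor : S ≤ normalizer (R : Set G)
  dec : ∀ z ∈ zc S, ∃ d ∈ zc S ⊓ cv S P, ∃ r ∈ zc S ⊓ R, z = d * r
  pt : ∀ r ∈ R, (∀ i, N.e r i 0 ≠ 0) → ∀ d ∈ zc S ⊓ cv S P, ∃ g ∈ P, d * r ∈ MulAut.conj g • zc S

theorem exists_ne_of_card (hK : 2 < Nat.card K) (a : K) : ∃ x, x ≠ 0 ∧ x ≠ a := by
  by_contra hno
  push Not at hno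
  have h1 : Function.Surjective fun b : Bool => if b then a else (0 : K) := by
    intro x
    by_cases hx : x = 0
    · exact ⟨false, by rw [hx]; rfl⟩
    · exact ⟨true, by rw [hno x hx]; rfl⟩
  have h2 := Nat.card_le_card_of_surjective _ h1
  rw [Nat.card_eq_fintype_card (α := Bool), Fintype.card_bool] at h2
  omega

/-- the hypotheses hold for `U = zl S P`, `D = cv S P`, `Z = zc S` -/
theorem pre [Finite G] (hG : IsCharacteristicTwoType G) {S : Sylow 2 G} {P : Subgroup G}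
    (hP : IsParS (S : Subgroup G) P) :
    Pre (S : Subgroup G) P (zl (S : Subgroup G) P) (cv (S : Subgroup G) P) (zc (S : Subgroup G)) where
  syl := ⟨hP.le, S.isPGroup', fun Q _ hQ hSQ => S.is_maximal' hQ hSQ⟩
  US := Cfsg.Agent.Omega.NOThreeL.Basic.IsParS.zl_le_S hG hP
  nU := le_normalizer_zl _ _
  nD g hg := mem_normalizer_iff.2 fun v => ⟨fun hv => conjD hg hv, fun hv => by
    have h1 := conjD (inv_mem hg) hv
    have e : g⁻¹ * (g * v * g⁻¹) * g⁻¹⁻¹ = v := by group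
    rwa [e] at h1⟩
  DU := inf_le_left
  ab _ hu _ hv := zl_comm' hG S hP hu hv
  sq _ hu := zl_sq' hG S hP hu
  ZU := zc_le_zl _ _
  Zc t ht z hz := (Cfsg.Agent.MinSimple.VModule.mem_zc.1 hz).2.1 t ht
  Zm u hu hc := by
    refine Cfsg.Agent.MinSimple.VModule.mem_zc.2 ⟨Cfsg.Agent.Omega.NOThreeL.Basic.IsParS.zl_le_S hG hP hu, hc, ?_⟩
    rw [pow_two]
    exact zl_sq' hG S hP hu
  gen W hW hPW := zl_le hW hPW

theorem exists_star [Finite G] (hG : IsCharacteristicTwoType G) {S : Sylow 2 G} {P : Subgroup G}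
    (hP : IsParS (S : Subgroup G) P)
    (N : NatKM K (S : Subgroup G) P (zl (S : Subgroup G) P) (cv (S : Subgroup G) P) k) (hk : 0 < k)
    (hK : 2 < Nat.card K) : ∃ R, Star (S : Subgroup G) P N R := by
  obtain ⟨R, hR⟩ := (pre hG hP).exists_star N hk (exists_ne_of_card hK)
  exact ⟨R, hR.le, hR.line, hR.surj, hR.inf, hR.nor, hR.dec, hR.pt⟩

end inst

end Cfsg.Agent.Omega.NOThreeL.RLow.Star
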