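import Cfsg.Agent.Mrg.Omega.NOThreeL.RLow.SymR
import Cfsg.Agent.Mrg.Omega.NO3S.KeyRad.Blk
import Cfsg.Agent.Mrg.Omega.NOThreeL.RLow.FrontP
import Cfsg.Agent.Mrg.Omega.NO3S.ThmB.Inst
import Cfsg.Agent.Mrg.Omega.VP

section


/-!
# THEOREM R-LOW (#21762), part RC (a): `|C_V(B) : F| ≤ q`

`s : SitR S V F B P`, `M : NatKM K S P (zl S P) (cv S P) k`, the radical `D = cv S P` is arbitrary, `q = |K|`.

* `nb`, `qb` : the inputs `Nb`, `QB` of `NO3S/KeyRad` for `SitR`;
* `exists_bad` : some `blk M i = [U, L_i]` is not in `E` (the block `i` is bad);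
* `mem_E` : `C_V(B) ≤ E`;
* `exists_beta` : some `b ∈ B` acts as `up β`, `β ≠ 0`, on a bad block;
* `exists_up_of_comm` : `t ∈ S` which centralises all `[u, b]`, `u ∈ U`, `b ∈ B`, acts as `up a` on a bad block;
* `cvq` : `|C_V(B) : F| ≤ q`.
-/

set_option autoImplicit false

namespace Cfsg.Agent.Omega.NOThreeL.RLow.RC

open Subgroup Cfsg Cfsg.Agent.ZN Cfsg.Agent.Omega.MinPar Cfsg.Agent.Omega.NoFF.Basic
open Cfsg.Agent.Omega.NOne.Flat (Hyp EE WW NN BadX badX_inv)
open Cfsg.Agent.Omega.NOne.NearFF (c c_def)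
open Cfsg.Agent.Omega.FrameFF (cv)
open Cfsg.Agent.Omega.FFThm (NatKM)
open Cfsg.Agent.Omega.NatPair (ap ap_one ap_zero' ap_one' ext2)
open Cfsg.Agent.Lib.SL2Mat (up up_00 up_01 up_10 up_11)
open Cfsg.Agent.Omega.NOThreeL.Low.Key (norm_conj_mem)
open Cfsg.Agent.Omega.NOThreeL.Low.Nat (QB)
open Cfsg.Agent.Omega.NO3S.ThmB (Nb)
open Cfsg.Agent.Omega.NO3S.KeyRad (blk Mv ph em em_mem e_em_self e_em_ne)
open scoped Pointwise

universe u

/-- counting -/
theorem relIndex_le_of_fun {G : Type u} [Group G] [Finite G] {A C : Subgroup G} {X : Type*} [Finite X] (φ : A → X)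
    (h : ∀ a b : A, φ a = φ b → (a : G)⁻¹ * b ∈ C) : C.relIndex A ≤ Nat.card X := by
  rw [relIndex, index]
  refine Nat.card_le_card_of_injective (fun q : A ⧸ C.subgroupOf A => φ q.out) ?_
  intro x y hxy
  have h2 := h _ _ hxy
  have h3 : (x.out : A ⧸ C.subgroupOf A) = y.out := by
    rw [QuotientGroup.eq, mem_subgroupOf]
    exact h2
  rwa [QuotientGroup.out_eq', QuotientGroup.out_eq'] at h3

/-- a 2-power root of unity in characteristic 2 is trivial -/
theorem eq_one_of_pow {K : Type*} [Field K] [CharP K 2] {a : K} {n : ℕ} (h : a ^ 2 ^ n = 1) : a = 1 := by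
  have h1 : (a - 1) ^ 2 ^ n = 0 := by rw [sub_pow_char_pow, h, one_pow, sub_self]
  exact sub_eq_zero.1 (pow_eq_zero_iff (by positivity) |>.1 h1)

variable {G : Type u} [Group G] [Finite G] {S : Sylow 2 G} {V F B P : Subgroup G}

section sit

variable (s : SitR S V F B P)
include s

/-- the input of `NO3S/KeyRad` for `B` -/
theorem qb : QB (S : Subgroup G) (zl (S : Subgroup G) P) B (EE V F) where
  BS := s.BS
  ab _ hb _ hc := (SymR.bh s).B_comm hb hc
  sq b hb := by rw [← pow_two]; exact s.sq b hb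
  quad _ hv _ hb _ hc := SymR.quad s (s.UV hv) hb hc
  t1 _ hw hwE h := SymR.false_of_few s (s.UV hw) hwE h

/-- `C_V(B) ≤ E` -/
theorem mem_E {r : G} (hr : r ∈ V) (hrB : ∀ b ∈ B, b * r = r * b) : r ∈ EE V F := by
  by_contra hE
  refine SymR.false_of_few s hr hE fun b hb _ _ h1 _ => absurd ?_ h1
  rw [hrB b hb, mul_inv_cancel_right]

variable {K : Type} [Field K] {k : ℕ}
  (M : NatKM K (S : Subgroup G) P (zl (S : Subgroup G) P) (cv (S : Subgroup G) P) k)

theorem nb : Nb M := NO3S.ThmB.Inst.nb s.ctx.char2 s.hP M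

/-- some block is bad -/
theorem exists_bad [CharP K 2] : ∃ i, ¬ blk M i ≤ EE V F := by
  refine NO3S.KeyRad.exists_blk (nb s M) (Z := zc (S : Subgroup G)) ZN.zc_le_zl ?_
    (fun L hZ hP => MinSimple.VModule.zl_le hZ hP) ((SymR.Z_le_I s).trans (SymR.I_le_E s)) s.bad
  intro z hz t ht
  exact (MinSimple.VModule.mem_zc.1 hz).2.1 t ht

variable {M} {i : Fin k} [Finite K] [CharP K 2] (hi : ¬ blk M i ≤ EE V F)
include hi

/-- some `b ∈ B` is not trivial on the bad block -/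
theorem exists_beta : ∃ b ∈ B, ∃ β : K, β ≠ 0 ∧
    ∀ v ∈ zl (S : Subgroup G) P, M.e (b * v * b⁻¹) i = ap (up β) (M.e v i) := by
  by_contra hcon
  push Not at hcon
  have h := nb s M
  obtain ⟨w, hw, hwE⟩ := SetLike.not_le_iff_exists.1 hi
  have key : ∀ b ∈ B, b * w * b⁻¹ = w := by
    intro b hb
    obtain ⟨β, hβ⟩ := NO3S.KeyRad.exists_up h (qb s) hi hb
    have h0 : β = 0 := by
      by_contra hne
      obtain ⟨v, hv, h1⟩ := hcon b hb β hne
      exact h1 (hβ v hv)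
    have h1 := NO3S.KeyRad.eq_lift h (qb s) (i := i) (b := b) (g := 1) (A := 1) (NO3S.KeyRad.BP h (qb s) hb)
      (one_mem _) (fun v hv => by rw [hβ v hv, h0, Lib.SL2Mat.up_zero])
      (fun v hv => by rw [one_mul, inv_one, mul_one, ap_one]) hw
    rw [h1, one_mul, inv_one, mul_one]
  exact SymR.false_of_few s (s.UV (NO3S.KeyRad.blk_le h i hw)) hwE fun b hb _ _ h1 _ => absurd (key b hb) h1

/-- `t ∈ S` which centralises `[U, B]` acts as an upper unitriangular matrix on the bad block. -/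
theorem exists_up_of_comm {t : G} (ht : t ∈ (S : Subgroup G))
    (hc : ∀ v ∈ zl (S : Subgroup G) P, ∀ b ∈ B, t * (b * v * b⁻¹ * v⁻¹) = b * v * b⁻¹ * v⁻¹ * t) :
    ∃ a : K, ∀ v ∈ zl (S : Subgroup G) P, M.e (t * v * t⁻¹) i = ap (up a) (M.e v i) := by
  have h := nb s M
  have q := qb s
  have htP : t ∈ P := s.hP.le ht
  obtain ⟨b, hb, β, hβ0, hβ⟩ := exists_beta s hi
  have hbP : b ∈ P := s.hP.le (s.BS hb)
  obtain ⟨σb, hσb⟩ := M.perm b hbP
  have hσbi := NO3S.KeyRad.fix h q hi hb hσb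
  -- the vectors `r x = [b, (0, x/β)]`
  have hr : ∀ x : K, ∃ r ∈ zl (S : Subgroup G) P, t * r * t⁻¹ = r ∧ M.e r i = ![x, 0] ∧ ∀ l, l ≠ i → M.e r l = 0 := by
    intro x
    have hu := em_mem M i ![0, x / β]
    have hbu := h.memV hbP hu
    refine ⟨b * em M i ![0, x / β] * b⁻¹ * (em M i ![0, x / β])⁻¹, mul_mem hbu (inv_mem hu), ?_, ?_, ?_⟩
    · rw [hc _ hu b hb, mul_inv_cancel_right]
    · rw [h.e_div hbu hu, Pi.add_apply, hβ _ hu, e_em_self]
      apply ext2
      · rw [Pi.add_apply, ap_zero', up_00, up_01]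
        simp [hβ0, mul_div_cancel₀]
      · rw [Pi.add_apply, ap_one', up_10, up_11]
        simp [CharTwo.add_self_eq_zero]
    · intro l hl
      have h1 := (hσb _ hu (σb.symm l)).2 (e_em_ne M (fun h2 => hl (by rw [← hσbi, ← h2, σb.apply_symm_apply])) _)
      rw [σb.apply_symm_apply] at h1
      rw [h.e_div hbu hu, Pi.add_apply, h1, e_em_ne M hl, add_zero]
  obtain ⟨σ, hσ⟩ := M.perm t htP
  have hσi : σ i = i := by
    obtain ⟨r, hrU, hrt, hri, hrl⟩ := hr 1
    have h1 := hσ r hrU i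
    by_contra hne
    rw [hrt, hrl _ hne, hri] at h1
    have h2 := congrFun (h1.1 rfl) 0
    simp at h2
  have he : ∀ v ∈ zl (S : Subgroup G) P, M.e (t * v * t⁻¹) i = ph M t i i (M.e v i) := by
    intro v hv
    have h1 := NO3S.KeyRad.e_conj h htP hσ hv i
    rwa [hσi] at h1
  have hadd := NO3S.KeyRad.ph_add h (M := M) htP i i
  obtain ⟨τ, hτ⟩ := NO3S.KeyRad.exists_semi h htP hσ i
  rw [hσi] at hτ
  have hfix : ∀ x : K, ph M t i i ![x, 0] = ![x, 0] := by
    intro x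
    obtain ⟨r, hrU, hrt, hri, -⟩ := hr x
    have h1 := he r hrU
    rw [hrt, hri] at h1
    exact h1.symm
  have hτ1 : ∀ x : K, τ x = x := by
    intro x
    have h1 := hτ x ![1, 0]
    have h2 : x • (![1, 0] : Fin 2 → K) = ![x, 0] := ext2 (by simp) (by simp)
    rw [h2, hfix, hfix] at h1
    have h3 := congrFun h1 0
    simpa using h3.symm
  have hdec : ∀ x : Fin 2 → K, x = ![x 0, 0] + x 1 • ![0, 1] := fun x => ext2 (by simp) (by simp)
  have hT : ∀ x : Fin 2 → K, ph M t i i x = ![x 0 + ph M t i i ![0, 1] 0 * x 1, ph M t i i ![0, 1] 1 * x 1] := by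
    intro x
    conv_lhs => rw [hdec x]
    rw [hadd, hfix, hτ, hτ1]
    apply ext2
    · simp [mul_comm]
    · simp [mul_comm]
  -- the entry at `(1, 1)`
  obtain ⟨ν, hν⟩ : ∃ ν, ph M t i i ![0, 1] 1 = ν := ⟨_, rfl⟩
  have hν1 : ν = 1 := by
    obtain ⟨n, hn⟩ := S.isPGroup' ⟨t, ht⟩
    have hn' : t ^ 2 ^ n = 1 := congrArg Subtype.val hn
    have hpow : ∀ m : ℕ, ∀ v ∈ zl (S : Subgroup G) P, M.e (t ^ m * v * (t ^ m)⁻¹) i 1 = ν ^ m * M.e v i 1 := by
      intro m
      induction m with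
      | zero => intro v hv; simp
      | succ m ih =>
        intro v hv
        have e1 : t ^ (m + 1) * v * (t ^ (m + 1))⁻¹ = t * (t ^ m * v * (t ^ m)⁻¹) * t⁻¹ := by
          rw [pow_succ']; group
        rw [e1, he _ (h.memV (pow_mem htP m) hv), hT]
        have h1 := ih v hv
        change ph M t i i ![0, 1] 1 * M.e (t ^ m * v * (t ^ m)⁻¹) i 1 = _
        rw [h1, hν, pow_succ']
        ring
    have h1 := hpow (2 ^ n) _ (em_mem M i ![0, 1])
    rw [hn', one_mul, inv_one, mul_one, e_em_self] at h1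
    have h2 : (1 : K) = ν ^ 2 ^ n := by simpa using h1
    exact eq_one_of_pow h2.symm
  refine ⟨ph M t i i ![0, 1] 0, fun v hv => ?_⟩
  rw [he v hv, hT]
  apply ext2
  · rw [ap_zero', up_00, up_01]
    simp
  · rw [ap_one', up_10, up_11, hν, hν1]
    simp

omit hi in
/-- **(a)** `|C_V(B) : F| ≤ q` -/
theorem cvq (M : NatKM K (S : Subgroup G) P (zl (S : Subgroup G) P) (cv (S : Subgroup G) P) k) :
    F.relIndex (V ⊓ centralizer (B : Set G)) ≤ Nat.card K := by
  have h := nb s M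
  have q := qb s
  have hF := s.flat
  obtain ⟨i, hi⟩ := exists_bad s M
  obtain ⟨w, hw, hwE⟩ := SetLike.not_le_iff_exists.1 hi
  have hwV : w ∈ V := s.UV (NO3S.KeyRad.blk_le h i hw)
  obtain ⟨x, hx, hb⟩ := Low.Key.exists_bad hF
  have hxi : x⁻¹ ∈ centralizer (F : Set G) := inv_mem hx
  -- `r' = x⁻¹ r x`
  have hE : ∀ r ∈ V ⊓ centralizer (B : Set G), r ∈ EE V F := fun r hr =>
    mem_E s hr.1 fun b hb => mem_centralizer_iff.1 hr.2 b hb
  have hr'W : ∀ r ∈ V ⊓ centralizer (B : Set G), x⁻¹ * r * x ∈ WW V F := by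
    intro r hr
    have h1 : x⁻¹ * r * x ∈ MulAut.conj x⁻¹ • EE V F := by
      rw [mem_conj]
      have e : x⁻¹⁻¹ * (x⁻¹ * r * x) * x⁻¹ = r := by group
      rw [e]
      exact hE r hr
    exact NOne.Flat.Hyp.conjE_le_W hxi h1
  have hr'B : ∀ r ∈ V ⊓ centralizer (B : Set G), ∀ b ∈ B, b * (x⁻¹ * r * x) = x⁻¹ * r * x * b := by
    intro r hr b hbB
    have h1 : x * b * x⁻¹ ∈ B := norm_conj_mem (s.XB hx) hbB
    have h2 := mem_centralizer_iff.1 hr.2 _ h1
    calc b * (x⁻¹ * r * x) = x⁻¹ * (x * b * x⁻¹ * r) * x := by group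
      _ = x⁻¹ * (r * (x * b * x⁻¹)) * x := by rw [h2]
      _ = x⁻¹ * r * x * b := by group
  have hr'S : ∀ r ∈ V ⊓ centralizer (B : Set G), x⁻¹ * r * x ∈ (S : Subgroup G) := fun r hr =>
    s.CB (mem_inf.2 ⟨hr'W r hr, mem_centralizer_iff.2 (hr'B r hr)⟩)
  have hup : ∀ r : ↥(V ⊓ centralizer (B : Set G)), ∃ a : K, ∀ v ∈ zl (S : Subgroup G) P,
      M.e (x⁻¹ * (r : G) * x * v * (x⁻¹ * (r : G) * x)⁻¹) i = ap (up a) (M.e v i) := by
    intro r
    refine exists_up_of_comm s hi (hr'S r r.2) fun v hv b hb => ?_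
    have h1 := (SymR.bh s).c_memI (s.UV hv) hb
    have h2 : b * v * b⁻¹ * v⁻¹ ∈ B := by
      have e : b * v * b⁻¹ * v⁻¹ = (c v b)⁻¹ := by rw [c_def]; group
      rw [e]
      exact inv_mem h1.2
    exact (hr'B r r.2 _ h2).symm
  choose φ hφ using hup
  refine relIndex_le_of_fun φ fun r₁ r₂ h12 => ?_
  -- `r₁'⁻¹ r₂'` centralises `w`
  have h1 : x⁻¹ * (r₁ : G) * x * w * (x⁻¹ * (r₁ : G) * x)⁻¹ = x⁻¹ * (r₂ : G) * x * w * (x⁻¹ * (r₂ : G) * x)⁻¹ :=
    NO3S.KeyRad.eq_lift h q (s.hP.le (hr'S r₁ r₁.2)) (s.hP.le (hr'S r₂ r₂.2)) (hφ r₁)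
      (by rw [h12]; exact hφ r₂) hw
  have h2 : c w ((x⁻¹ * (r₁ : G) * x)⁻¹ * (x⁻¹ * (r₂ : G) * x)) = 1 := by
    have h3 : ((x⁻¹ * (r₁ : G) * x)⁻¹ * (x⁻¹ * (r₂ : G) * x)) * w *
        ((x⁻¹ * (r₁ : G) * x)⁻¹ * (x⁻¹ * (r₂ : G) * x))⁻¹ = w := by
      calc _ = (x⁻¹ * (r₁ : G) * x)⁻¹ * (x⁻¹ * (r₂ : G) * x * w * (x⁻¹ * (r₂ : G) * x)⁻¹) *
            (x⁻¹ * (r₁ : G) * x) := by group
        _ = (x⁻¹ * (r₁ : G) * x)⁻¹ * (x⁻¹ * (r₁ : G) * x * w * (x⁻¹ * (r₁ : G) * x)⁻¹) *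
            (x⁻¹ * (r₁ : G) * x) := by rw [h1]
        _ = w := by group
    have e : ∀ y : G, c w y = w * (y * w * y⁻¹)⁻¹ := fun y => by rw [c_def]; group
    rw [e, h3, mul_inv_cancel]
  have h3 : (x⁻¹ * (r₁ : G) * x)⁻¹ * (x⁻¹ * (r₂ : G) * x) ∈ NN V F :=
    (hF.c_mem_F_iff hwV hwE (mul_mem (inv_mem (hr'W r₁ r₁.2)) (hr'W r₂ r₂.2))).1 (by rw [h2]; exact one_mem _)
  rw [← hF.E_inf_conjNN hx hb]
  refine mem_inf.2 ⟨mul_mem (inv_mem (hE r₁ r₁.2)) (hE r₂ r₂.2), ?_⟩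
  rw [mem_conj]
  have e : x⁻¹ * ((r₁ : G)⁻¹ * (r₂ : G)) * x = (x⁻¹ * (r₁ : G) * x)⁻¹ * (x⁻¹ * (r₂ : G) * x) := by group
  rw [e]
  exact h3

end sit

end Cfsg.Agent.Omega.NOThreeL.RLow.RC

end

section


/-!
# THEOREM R-LOW (#21762), part RC: the count ((b4) of #22164, #22231 (B))

`N : NatKM K S P (zl S P) D k`, `D = cv S P`, `R` an `S`-invariant complement of `D` in the preimage of the sum of the
lines (`Rst`, `RstS`).

* `inv_unique`, `exists_tr` : involutions of finite fields of characteristic 2;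
* `single_mem` : the single elements of `R` are in `E` ((T1) inside `R`);
* `exists_g`, `exists_f` : the product `f` of the components `z_j` of `z ∈ Z ∩ R` over the lines which `B` moves is in `F`;
* `card_mul_le` : `q |Z ∩ D| ≤ |C_V(B) : F|`; `rc_of` : `D = 1`.
-/

set_option autoImplicit false
set_option linter.unusedSectionVars false

namespace Cfsg.Agent.Omega.NOThreeL.RLow.Cnt

open Subgroup Cfsg Cfsg.Agent.ZN
open Cfsg.Agent.Omega.MinPar Cfsg.Agent.Omega.Frame Cfsg.Agent.Omega.FrameNOFF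
open Cfsg.Agent.Omega.FFThm Cfsg.Agent.Omega.NatPair
open Cfsg.Agent.Omega.FrameFF (cv)
open Cfsg.Agent.Omega.NOne.Flat (Hyp EE WW NN)
open Cfsg.Agent.Omega.NOne.NearFF (c)
open Cfsg.Agent.Omega.NO3S.ThmB Cfsg.Agent.Omega.NO3S.KeyRad
open Cfsg.Agent.Omega.NOThreeL.Low.Nat (QB)
open Cfsg.Agent.MinSimple.VModule (zc_le_zl)
open scoped Pointwise

universe u

/-- the involution of the automorphism group of a finite field is unique -/
theorem inv_unique {K : Type} [Field K] [Finite K] [CharP K 2] {s t : K ≃+* K} (hs : ∀ x, s (s x) = x)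
    (ht : ∀ x, t (t x) = x) {a b : K} (ha : s a ≠ a) (hb : t b ≠ b) (x : K) : s x = t x := by
  classical
  let _ : Algebra (ZMod 2) K := ZMod.algebra K 2
  have hcom : ∀ (f : K ≃+* K) (r : ZMod 2), f (algebraMap (ZMod 2) K r) = algebraMap (ZMod 2) K r := by
    intro f r
    exact RingHom.congr_fun (Subsingleton.elim (f.toRingHom.comp (algebraMap (ZMod 2) K)) (algebraMap (ZMod 2) K)) r
  set S : K ≃ₐ[ZMod 2] K := AlgEquiv.ofRingEquiv (hcom s) with hS
  set T : K ≃ₐ[ZMod 2] K := AlgEquiv.ofRingEquiv (hcom t) with hT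
  have hSx : ∀ x, S x = s x := fun _ => rfl
  have hTx : ∀ x, T x = t x := fun _ => rfl
  have : Fintype (K ≃ₐ[ZMod 2] K) := Fintype.ofFinite _
  have hS2 : S ^ 2 = 1 := by
    ext x
    rw [pow_two]
    exact hs x
  have hT2 : T ^ 2 = 1 := by
    ext x
    rw [pow_two]
    exact ht x
  have hS1 : S ≠ 1 := fun h => ha (by rw [← hSx, h]; rfl)
  have hT1 : T ≠ 1 := fun h => hb (by rw [← hTx, h]; rfl)
  have hcard := IsCyclic.card_pow_eq_one_le (α := K ≃ₐ[ZMod 2] K) (n := 2) two_pos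
  by_contra hne
  have hST : S ≠ T := fun h => hne (by rw [← hSx, h, hTx])
  have hsub : ({1, S, T} : Finset (K ≃ₐ[ZMod 2] K)) ⊆ Finset.univ.filter fun g => g ^ 2 = 1 := by
    intro g hg
    rw [Finset.mem_insert, Finset.mem_insert, Finset.mem_singleton] at hg
    rw [Finset.mem_filter]
    rcases hg with rfl | rfl | rfl
    · exact ⟨Finset.mem_univ _, one_pow 2⟩
    · exact ⟨Finset.mem_univ _, hS2⟩
    · exact ⟨Finset.mem_univ _, hT2⟩
  have h3 : ({1, S, T} : Finset (K ≃ₐ[ZMod 2] K)).card = 3 := by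
    rw [Finset.card_eq_three]
    exact ⟨1, S, T, hS1.symm, hT1.symm, hST, rfl⟩
  have h4 := (Finset.card_le_card hsub).trans hcard
  omega

/-- a nontrivial involution of a field of characteristic 2 has a `μ` with `μ + s μ = 1` -/
theorem exists_tr {K : Type} [Field K] [CharP K 2] {s : K ≃+* K} (hs : ∀ x, s (s x) = x) {a : K} (ha : s a ≠ a) :
    ∃ m, s m + m = 1 := by
  have hm0 : a + s a ≠ 0 := fun h => ha (CharTwo.add_eq_zero.1 h).symm
  have hsm : s (a + s a) = a + s a := by rw [map_add, hs, add_comm]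
  refine ⟨a / (a + s a), ?_⟩
  rw [map_div₀, hsm, ← add_div, add_comm (s a), div_self hm0]

/-! ### The lines `R_i` -/

section mod

variable {G : Type u} [Group G] {K : Type} [Field K] {S P U D : Subgroup G} {k : ℕ}

/-- `R` is an `S`-invariant complement of `D` in the preimage of the sum of the lines. -/
structure Rst (N : NatKM K S P U D k) (R : Subgroup G) : Prop where
  le : R ≤ U
  line : ∀ r ∈ R, ∀ i, N.e r i 1 = 0
  surj : ∀ x : Fin k → K, ∃ r ∈ R, ∀ i, N.e r i 0 = x i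
  inf : R ⊓ D = ⊥
  nor : S ≤ normalizer (R : Set G)

namespace Rst

variable {N : NatKM K S P U D k} {R : Subgroup G} (o : Rst N R)
include o

theorem e_eq {r : G} (hr : r ∈ R) (i : Fin k) : N.e r i = ![N.e r i 0, 0] := by
  refine vec_eq ?_ ?_
  · simp
  · rw [o.line r hr i]; simp

variable (h : Nb N)
include h

theorem inj [CharP K 2] {r r' : G} (hr : r ∈ R) (hr' : r' ∈ R) (hx : ∀ i, N.e r i 0 = N.e r' i 0) : r = r' := by
  have h1 : N.e r = N.e r' := by
    funext i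
    rw [o.e_eq hr, o.e_eq hr', hx]
  have h2 := (h.mem_D (o.le hr) (o.le hr')).2 h1
  have h3 : r * r'⁻¹ ∈ R ⊓ D := mem_inf.2 ⟨mul_mem hr (inv_mem hr'), h2⟩
  rw [o.inf, mem_bot] at h3
  exact mul_inv_eq_one.1 h3

theorem inj' [CharP K 2] {r r' : G} (hr : r ∈ R) (hr' : r' ∈ R) (hx : ∀ i, N.e r i = N.e r' i) : r = r' :=
  o.inj h hr hr' fun i => by rw [hx]

omit h in
theorem conj {g r : G} (hg : g ∈ S) (hr : r ∈ R) : g * r * g⁻¹ ∈ R := (mem_normalizer_iff.1 (o.nor hg) r).1 hr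

omit h in
/-- the element of `R` with coordinate `m` at `i` -/
theorem exists_rs (i : Fin k) (m : K) : ∃ r ∈ R, N.e r i 0 = m ∧ ∀ j, j ≠ i → N.e r j = 0 := by
  classical
  obtain ⟨r, hr, hx⟩ := o.surj (Function.update 0 i m)
  refine ⟨r, hr, by rw [hx, Function.update_self], fun j hj => ?_⟩
  rw [o.e_eq hr, hx, Function.update_of_ne hj]
  refine vec_eq ?_ ?_ <;> simp

end Rst

section qb

variable [Finite K] [CharP K 2] {B E R : Subgroup G} {N : NatKM K S P U D k} (o : Rst N R) (h : Nb N) (q : QB S U B E)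
include o h q

/-- the supports -/
theorem off_zero {r b : G} {i : Fin k} (hr : r ∈ R) (hri : ∀ j, j ≠ i → N.e r j = 0) {σ : Equiv.Perm (Fin k)}
    (hσ : Mv N b σ) {j : Fin k} (hj : j ≠ σ i) : N.e (b * r * b⁻¹) j = 0 := by
  have h1 := (hσ r (o.le hr) (σ.symm j)).2 (hri _ fun h2 => hj (by rw [← h2, σ.apply_symm_apply]))
  rwa [σ.apply_symm_apply] at h1

/-- a moved block -/
theorem moved {r b d : G} {i : Fin k} (hr : r ∈ R) (hri : ∀ j, j ≠ i → N.e r j = 0) (hb : b ∈ B) (hd : d ∈ B)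
    {σ : Equiv.Perm (Fin k)} (hσ : Mv N b σ) (hne : σ i ≠ i) (hdr : d * r * d⁻¹ ≠ r) :
    d * r * d⁻¹ = b * r * b⁻¹ := by
  have hbS := q.BS hb
  have hdS := q.BS hd
  obtain ⟨τ, hτ⟩ := N.perm d (BP h q hd)
  have hτ' : Mv N d τ := hτ
  have hrel := rel h q (o.le hr) hb hd
  have hbr := o.conj hbS hr
  have hdr' := o.conj hdS hr
  have hsb : ∀ j, j ≠ σ i → N.e (b * r * b⁻¹) j = 0 := fun j hj => off_zero o h q hr hri hσ hj
  have hsd : ∀ j, j ≠ τ i → N.e (d * r * d⁻¹) j = 0 := fun j hj => off_zero o h q hr hri hτ' hj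
  have hsdb : ∀ j, j ≠ τ (σ i) → N.e (d * (b * r * b⁻¹) * d⁻¹) j = 0 := fun j hj =>
    off_zero o h q hbr hsb hτ' hj
  have hτi : τ i ≠ τ (σ i) := fun h1 => hne (τ.injective h1).symm
  by_cases h1 : τ i = i
  · exfalso
    apply hdr
    refine o.inj' h hdr' hr fun j => ?_
    by_cases hj : j = i
    · have h2 := congrFun hrel i
      rw [Pi.add_apply, Pi.add_apply, hsdb i (fun h' => hτi (h1.trans h')), hsb i (Ne.symm hne), zero_add,
        zero_add] at h2
      rw [hj, h2]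
    · rw [hsd j (by rw [h1]; exact hj), hri j hj]
  · by_cases h2 : τ i = σ i
    · refine o.inj' h hdr' hbr fun j => ?_
      by_cases hj : j = σ i
      · have h3 := congrFun hrel (σ i)
        rw [Pi.add_apply, Pi.add_apply, hsdb (σ i) (fun h' => hτi (h2.trans h')), zero_add,
          hri (σ i) hne, add_zero] at h3
        rw [hj, h3]
      · rw [hsd j (by rw [h2]; exact hj), hsb j hj]
    · exfalso
      apply hdr
      have h3 := congrFun hrel (τ i)
      rw [Pi.add_apply, Pi.add_apply, hsdb (τ i) hτi, hsb (τ i) h2, zero_add, hri _ h1, add_zero] at h3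
      have h4 := (hτ' r (o.le hr) i).1 h3
      have h5 : r = 1 := by
        refine o.inj' h hr (one_mem R) fun j => ?_
        rw [Nb.e_one (M := N)]
        by_cases hj : j = i
        · rw [hj, h4]; rfl
        · rw [hri j hj]; rfl
      rw [h5]
      group

variable {z : G} (hz : z ∈ R) (hzB : ∀ b ∈ B, b * z = z * b) (hz0 : ∀ i, N.e z i 0 ≠ 0)
include hz hzB hz0

/-- a fixed block: `B` acts by field automorphisms -/
theorem field {b : G} (hb : b ∈ B) {σ : Equiv.Perm (Fin k)} (hσ : Mv N b σ) {i : Fin k} (hi : σ i = i) :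
    ∃ τ : K ≃+* K, (∀ x, τ (τ x) = x) ∧ ∀ r ∈ R, ∀ m : K, N.e r i 0 = m * N.e z i 0 →
      N.e (b * r * b⁻¹) i 0 = τ m * N.e z i 0 := by
  have hbP := BP h q hb
  obtain ⟨τ, hτ⟩ := exists_semi h hbP hσ i
  rw [hi] at hτ
  have he : ∀ v ∈ U, N.e (b * v * b⁻¹) i = ph N b i i (N.e v i) := by
    intro v hv
    have h1 := e_conj h hbP hσ hv i
    rwa [hi] at h1
  have hzfix : ph N b i i (N.e z i) = N.e z i := by
    rw [← he z (o.le hz), hzB b hb, mul_inv_cancel_right]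
  have hm : ∀ m : K, ph N b i i (m • N.e z i) = τ m • N.e z i := fun m => by rw [hτ, hzfix]
  refine ⟨τ, fun x => ?_, fun r hr m hrm => ?_⟩
  · have hv := em_mem N i (x • N.e z i)
    have h1 := he _ (h.memV hbP hv)
    rw [he _ hv, e_em_self, hm, hm] at h1
    have h2 : b * (b * em N i (x • N.e z i) * b⁻¹) * b⁻¹ = em N i (x • N.e z i) := by
      calc b * (b * em N i (x • N.e z i) * b⁻¹) * b⁻¹ = b * b * em N i (x • N.e z i) * (b * b)⁻¹ := by group
        _ = _ := by rw [q.sq b hb]; group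
    rw [h2, e_em_self] at h1
    have h3 := congrFun h1 0
    rw [Pi.smul_apply, Pi.smul_apply, smul_eq_mul, smul_eq_mul] at h3
    exact (mul_right_cancel₀ (hz0 i) h3).symm
  · have h1 : N.e r i = m • N.e z i := by
      rw [o.e_eq hr, o.e_eq hz, hrm]
      refine vec_eq ?_ ?_ <;> simp
    rw [he r (o.le hr), h1, hm, Pi.smul_apply, smul_eq_mul]

/-- **single elements of `R` are in `E`** -/
theorem single_mem {r : G} {i : Fin k} (hr : r ∈ R) (hri : ∀ j, j ≠ i → N.e r j = 0) : r ∈ E := by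
  by_contra hE
  refine q.t1 r (o.le hr) hE fun b hb d hd hbr hdr => ?_
  obtain ⟨σ, hσ⟩ := N.perm b (BP h q hb)
  obtain ⟨τ, hτ⟩ := N.perm d (BP h q hd)
  by_cases h1 : σ i = i
  · by_cases h2 : τ i = i
    · obtain ⟨s, hs, hs'⟩ := field o h q hz hzB hz0 hb hσ h1
      obtain ⟨t, ht, ht'⟩ := field o h q hz hzB hz0 hd hτ h2
      set m : K := N.e r i 0 / N.e z i 0 with hm
      have hrm : N.e r i 0 = m * N.e z i 0 := by rw [hm, div_mul_cancel₀ _ (hz0 i)]
      have key : ∀ g ∈ B, ∀ ρ : Equiv.Perm (Fin k), Mv N g ρ → ρ i = i → ∀ f : K ≃+* K,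
          N.e (g * r * g⁻¹) i 0 = f m * N.e z i 0 → g * r * g⁻¹ ≠ r → f m ≠ m := by
        intro g hg ρ hρ hρi f hf hne hfm
        apply hne
        refine o.inj h (o.conj (q.BS hg) hr) hr fun j => ?_
        by_cases hj : j = i
        · rw [hj, hf, hfm, ← hrm]
        · rw [off_zero o h q hr hri hρ (by rw [hρi]; exact hj), hri j hj]
      have hsm := key b hb σ hσ h1 s (hs' r hr m hrm) hbr
      have htm := key d hd τ hτ h2 t (ht' r hr m hrm) hdr
      refine o.inj h (o.conj (q.BS hb) hr) (o.conj (q.BS hd) hr) fun j => ?_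
      by_cases hj : j = i
      · rw [hj, hs' r hr m hrm, ht' r hr m hrm, inv_unique hs ht hsm htm]
      · rw [off_zero o h q hr hri hσ (by rw [h1]; exact hj), off_zero o h q hr hri hτ (by rw [h2]; exact hj)]
    · exact moved o h q hr hri hd hb hτ h2 hbr
  · exact (moved o h q hr hri hb hd hσ h1 hdr).symm

end qb

end mod

section mod2

variable {G : Type u} [Group G] {K : Type} [Field K] {S P U D : Subgroup G} {k : ℕ}
variable [Finite K] [CharP K 2] {B E R F' : Subgroup G} {N : NatKM K S P U D k} (o : Rst N R) (h : Nb N)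

include o h in
/-- a subgroup which contains all single elements over the support of `r` contains `r` -/
theorem mem_of_single {C : Subgroup G} {r : G} (hr : r ∈ R)
    (hC : ∀ l, N.e r l 0 ≠ 0 → ∀ t ∈ R, (∀ j, j ≠ l → N.e t j = 0) → t ∈ C) : r ∈ C := by
  classical
  have key : ∀ n : ℕ, ∀ r ∈ R, (Finset.univ.filter fun l => N.e r l 0 ≠ 0).card ≤ n →
      (∀ l, N.e r l 0 ≠ 0 → ∀ t ∈ R, (∀ j, j ≠ l → N.e t j = 0) → t ∈ C) → r ∈ C := by
    intro n
    induction n with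
    | zero =>
      intro r hr hn _
      have h1 : r = 1 := by
        refine o.inj h hr (one_mem R) fun i => ?_
        rw [Nb.e_one (M := N)]
        by_contra h2
        have h3 : i ∈ Finset.univ.filter fun l => N.e r l 0 ≠ 0 := Finset.mem_filter.2 ⟨Finset.mem_univ _, h2⟩
        have h4 := Finset.card_pos.2 ⟨i, h3⟩
        omega
      rw [h1]
      exact one_mem C
    | succ n ih =>
      intro r hr hn hC
      by_cases h0 : ∀ l, N.e r l 0 = 0
      · exact ih r hr (by rw [Finset.filter_false_of_mem (fun l _ => by simpa using h0 l)]; simp) hC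
      · push Not at h0
        obtain ⟨l, hl⟩ := h0
        obtain ⟨t, ht, htl, htj⟩ := o.exists_rs l (N.e r l 0)
        have htC := hC l hl t ht htj
        have hco : ∀ j, N.e (t⁻¹ * r) j 0 = N.e t j 0 + N.e r j 0 := fun j => by
          rw [N.mul _ (inv_mem (o.le ht)) _ (o.le hr), h.e_inv (o.le ht)]; rfl
        have hj : ∀ j, j ≠ l → N.e (t⁻¹ * r) j 0 = N.e r j 0 := fun j hj => by
          rw [hco, htj j hj]; simp
        have hll : N.e (t⁻¹ * r) l 0 = 0 := by rw [hco, htl, CharTwo.add_self_eq_zero]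
        have h1 : t⁻¹ * r ∈ C := by
          refine ih _ (mul_mem (inv_mem ht) hr) ?_ fun j hj0 => ?_
          · have h2 : (Finset.univ.filter fun j => N.e (t⁻¹ * r) j 0 ≠ 0) ⊂ Finset.univ.filter fun j => N.e r j 0 ≠ 0 := by
              rw [Finset.ssubset_iff_of_subset]
              · exact ⟨l, Finset.mem_filter.2 ⟨Finset.mem_univ _, hl⟩, fun h3 => (Finset.mem_filter.1 h3).2 hll⟩
              · intro j h3
                have h4 := (Finset.mem_filter.1 h3).2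
                have h5 : j ≠ l := fun h6 => h4 (by rw [h6]; exact hll)
                exact Finset.mem_filter.2 ⟨Finset.mem_univ _, by rwa [hj j h5] at h4⟩
            have h3 := Finset.card_lt_card h2
            omega
          · have h5 : j ≠ l := fun h6 => hj0 (by rw [h6]; exact hll)
            exact hC j (by rwa [hj j h5] at hj0)
        have h2 : r = t * (t⁻¹ * r) := by group
        rw [h2]
        exact mul_mem htC h1
  exact key _ r hr le_rfl hC

variable (q : QB S U B E) (hEF : ∀ e ∈ E, ∀ b ∈ B, b * e * b⁻¹ * e⁻¹ ∈ F')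
variable {z : G} (hz : z ∈ R) (hzB : ∀ b ∈ B, b * z = z * b) (hz0 : ∀ i, N.e z i 0 ≠ 0)
include o h q hEF hz hzB hz0

/-- the partial product over a `B`-orbit -/
theorem exists_g {j : Fin k} {r b : G} (hr : r ∈ R) (hrj : ∀ l, l ≠ j → N.e r l = 0) (hb : b ∈ B)
    (hbr : b * r ≠ r * b) :
    ∃ g ∈ R, g ∈ F' ∧ (∀ b ∈ B, b * g = g * b) ∧ N.e g j 0 = N.e z j 0 ∧
      ∀ l, N.e g l 0 = 0 ∨ (N.e g l 0 = N.e z l 0 ∧ ∃ b ∈ B, ∃ σ, Mv N b σ ∧ σ j = l) := by
  have hbS := q.BS hb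
  have hbP := BP h q hb
  have hbr' : b * r * b⁻¹ ≠ r := fun h1 => hbr (mul_inv_eq_iff_eq_mul.1 h1)
  obtain ⟨σ, hσ⟩ := N.perm b hbP
  have hσ' : Mv N b σ := hσ
  -- the element `[t, b]`
  have main : ∀ t ∈ R, (∀ l, l ≠ j → N.e t l = 0) → b * t * b⁻¹ * t⁻¹ ∈ R ∧ b * t * b⁻¹ * t⁻¹ ∈ F' ∧
      (∀ d ∈ B, d * (b * t * b⁻¹ * t⁻¹) = b * t * b⁻¹ * t⁻¹ * d) ∧
      ∀ l, N.e (b * t * b⁻¹ * t⁻¹) l 0 = N.e (b * t * b⁻¹) l 0 + N.e t l 0 := by
    intro t ht htj
    refine ⟨mul_mem (o.conj hbS ht) (inv_mem ht), hEF t (single_mem o h q hz hzB hz0 ht htj) b hb,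
      fun d hd => q.quad t (o.le ht) b hb d hd, fun l => ?_⟩
    rw [h.e_div (h.memV hbP (o.le ht)) (o.le ht)]; rfl
  by_cases h1 : σ j = j
  · obtain ⟨s, hs, hs'⟩ := field o h q hz hzB hz0 hb hσ' h1
    set m : K := N.e r j 0 / N.e z j 0 with hm
    have hrm : N.e r j 0 = m * N.e z j 0 := by rw [hm, div_mul_cancel₀ _ (hz0 j)]
    have hsm : s m ≠ m := by
      intro hfm
      apply hbr'
      refine o.inj h (o.conj hbS hr) hr fun l => ?_
      by_cases hl : l = j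
      · rw [hl, hs' r hr m hrm, hfm, ← hrm]
      · rw [off_zero o h q hr hrj hσ' (by rw [h1]; exact hl), hrj l hl]
    obtain ⟨m', hm'⟩ := exists_tr hs hsm
    obtain ⟨t, ht, htm, htj⟩ := o.exists_rs j (m' * N.e z j 0)
    obtain ⟨c1, c2, c3, c4⟩ := main t ht htj
    refine ⟨_, c1, c2, c3, ?_, fun l => ?_⟩
    · rw [c4, hs' t ht m' htm, htm, ← add_mul, hm', one_mul]
    · by_cases hl : l = j
      · right
        rw [hl]
        refine ⟨?_, b, hb, σ, hσ', h1⟩
        rw [c4, hs' t ht m' htm, htm, ← add_mul, hm', one_mul]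
      · left
        rw [c4, off_zero o h q ht htj hσ' (by rw [h1]; exact hl), htj l hl]
        simp
  · obtain ⟨t, ht, htm, htj⟩ := o.exists_rs j (N.e z j 0)
    obtain ⟨c1, c2, c3, c4⟩ := main t ht htj
    have hj : N.e (b * t * b⁻¹ * t⁻¹) j 0 = N.e z j 0 := by
      rw [c4, off_zero o h q ht htj hσ' (Ne.symm h1), htm]
      simp
    refine ⟨_, c1, c2, c3, hj, fun l => ?_⟩
    by_cases hl : l = j
    · right
      rw [hl]
      refine ⟨hj, 1, one_mem B, 1, fun v _ i => ?_, rfl⟩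
      have e1 : 1 * v * (1 : G)⁻¹ = v := by group
      rw [e1]; rfl
    · by_cases hl2 : l = σ j
      · right
        rw [hl2]
        refine ⟨?_, b, hb, σ, hσ', rfl⟩
        rw [c4, htj (σ j) h1]
        have h2 := e_conj h hbP hσ' (o.le ht) j
        have h3 := e_conj h hbP hσ' (o.le hz) j
        have h4 : N.e t j = N.e z j := by rw [o.e_eq ht, o.e_eq hz, htm]
        rw [h4, ← h3, hzB b hb, mul_inv_cancel_right] at h2
        rw [h2]
        simp
      · left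
        rw [c4, off_zero o h q ht htj hσ' hl2, htj l hl]
        simp

/-- the product over all moved lines -/
theorem exists_f : ∃ f ∈ R, f ∈ F' ∧ (∀ b ∈ B, b * f = f * b) ∧ (∀ l, N.e f l 0 = 0 ∨ N.e f l 0 = N.e z l 0) ∧
    ∀ j, N.e f j 0 = 0 → ∀ r ∈ R, (∀ l, l ≠ j → N.e r l = 0) → ∀ b ∈ B, b * r = r * b := by
  classical
  have key : ∀ n : ℕ, ∀ f ∈ R, f ∈ F' → (∀ b ∈ B, b * f = f * b) → (∀ l, N.e f l 0 = 0 ∨ N.e f l 0 = N.e z l 0) →
      (Finset.univ.filter fun l => N.e f l 0 = 0).card ≤ n →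
      ∃ f ∈ R, f ∈ F' ∧ (∀ b ∈ B, b * f = f * b) ∧ (∀ l, N.e f l 0 = 0 ∨ N.e f l 0 = N.e z l 0) ∧
        ∀ j, N.e f j 0 = 0 → ∀ r ∈ R, (∀ l, l ≠ j → N.e r l = 0) → ∀ b ∈ B, b * r = r * b := by
    intro n
    induction n with
    | zero =>
      intro f hf hfF hfB hfl hn
      refine ⟨f, hf, hfF, hfB, hfl, fun j hj => ?_⟩
      have h3 : j ∈ Finset.univ.filter fun l => N.e f l 0 = 0 := Finset.mem_filter.2 ⟨Finset.mem_univ _, hj⟩
      have h4 := Finset.card_pos.2 ⟨j, h3⟩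
      omega
    | succ n ih =>
      intro f hf hfF hfB hfl hn
      by_cases hall : ∀ j, N.e f j 0 = 0 → ∀ r ∈ R, (∀ l, l ≠ j → N.e r l = 0) → ∀ b ∈ B, b * r = r * b
      · exact ⟨f, hf, hfF, hfB, hfl, hall⟩
      · push Not at hall
        obtain ⟨j, hj, r, hr, hrj, b, hb, hbr⟩ := hall
        obtain ⟨g, hg, hgF, hgB, hgj, hgl⟩ := exists_g o h q hEF hz hzB hz0 hr hrj hb hbr
        have hco : ∀ l, N.e (f * g) l 0 = N.e f l 0 + N.e g l 0 := fun l => by
          rw [N.mul _ (o.le hf) _ (o.le hg)]; rfl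
        have hfj : N.e f j = 0 := by
          rw [o.e_eq hf, hj]
          refine vec_eq ?_ ?_ <;> simp
        have hcase : ∀ l, N.e g l 0 = 0 ∨ (N.e g l 0 = N.e z l 0 ∧ N.e f l 0 = 0) := by
          intro l
          rcases hgl l with h1 | ⟨h1, d, hd, σ, hσ, hσj⟩
          · exact Or.inl h1
          · right
            refine ⟨h1, ?_⟩
            have h2 := (hσ f (o.le hf) j).2 hfj
            rw [hfB d hd, mul_inv_cancel_right, hσj] at h2
            rw [h2]; rfl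
        refine ih (f * g) (mul_mem hf hg) (mul_mem hfF hgF) (fun d hd => ?_) (fun l => ?_) ?_
        · exact (show Commute d f from hfB d hd).mul_right (show Commute d g from hgB d hd)
        · rw [hco]
          rcases hcase l with h1 | ⟨h1, h2⟩
          · rw [h1, add_zero]; exact hfl l
          · rw [h1, h2, zero_add]; exact Or.inr rfl
        · have h2 : (Finset.univ.filter fun l => N.e (f * g) l 0 = 0) ⊂ Finset.univ.filter fun l => N.e f l 0 = 0 := by
            rw [Finset.ssubset_iff_of_subset]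
            · refine ⟨j, Finset.mem_filter.2 ⟨Finset.mem_univ _, hj⟩, fun h3 => ?_⟩
              have h4 := (Finset.mem_filter.1 h3).2
              rw [hco, hj, zero_add, hgj] at h4
              exact hz0 j h4
            · intro l h3
              have h4 := (Finset.mem_filter.1 h3).2
              refine Finset.mem_filter.2 ⟨Finset.mem_univ _, ?_⟩
              rw [hco] at h4
              rcases hcase l with h5 | ⟨h5, h6⟩
              · rwa [h5, add_zero] at h4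
              · exact h6
          have h3 := Finset.card_lt_card h2
          omega
  refine key _ 1 (one_mem R) (one_mem F') (fun b _ => by group) (fun l => ?_) le_rfl
  left
  rw [Nb.e_one (M := N)]; rfl

end mod2

/-! ### RC -/

section sit

variable {G : Type u} [Group G] [Finite G] {S : Sylow 2 G} {V F B P : Subgroup G}
variable {K : Type} [Field K] [Finite K] [CharP K 2] {k : ℕ}

/-- `[E, B] ≤ F` -/
theorem comm_EB (s : SitR S V F B P) {e b : G} (he : e ∈ EE V F) (hb : b ∈ B) : b * e * b⁻¹ * e⁻¹ ∈ F := by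
  have h2 : b * e * b⁻¹ * e⁻¹ = (c e b)⁻¹ := by rw [c]; group
  rw [h2]
  exact inv_mem (s.flat.comm_EW he (s.BW hb))

/-- the input from the module -/
structure RstS (S : Sylow 2 G) (P : Subgroup G)
    (N : NatKM K (S : Subgroup G) P (zl (S : Subgroup G) P) (cv (S : Subgroup G) P) k) (R : Subgroup G) : Prop
    extends Rst N R where
  dec : ∀ z ∈ zc (S : Subgroup G), ∃ d ∈ zc (S : Subgroup G) ⊓ cv (S : Subgroup G) P,
    ∃ r ∈ zc (S : Subgroup G) ⊓ R, z = d * r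
  pt : ∀ r ∈ R, (∀ i, N.e r i 0 ≠ 0) → ∀ d ∈ zc (S : Subgroup G) ⊓ cv (S : Subgroup G) P,
    ∃ g ∈ P, d * r ∈ MulAut.conj g • zc (S : Subgroup G)

/-- `Z ≰ D` -/
theorem not_zc_le (hk : 0 < k) (N : NatKM K (S : Subgroup G) P (zl (S : Subgroup G) P) (cv (S : Subgroup G) P) k) :
    ¬ zc (S : Subgroup G) ≤ cv (S : Subgroup G) P := by
  intro hle
  have h1 : zl (S : Subgroup G) P ≤ cv (S : Subgroup G) P :=
    MinSimple.VModule.zl_le hle NO3S.ThmB.Inst.le_normalizer_cv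
  obtain ⟨v, hv, hve⟩ := N.surj (fun _ => ![1, 0])
  have h2 := (N.ker v hv).2 (h1 hv)
  rw [hve] at h2
  have h3 := congrFun (congrFun h2 ⟨0, hk⟩) 0
  simp at h3

/-- a vector of full support in `Z ∩ R` -/
theorem exists_z (hk : 0 < k)
    {N : NatKM K (S : Subgroup G) P (zl (S : Subgroup G) P) (cv (S : Subgroup G) P) k} {R : Subgroup G}
    (o : RstS S P N R) : ∃ z ∈ zc (S : Subgroup G) ⊓ R, ∀ i, N.e z i 0 ≠ 0 := by
  obtain ⟨z, hz, hzD⟩ := SetLike.not_le_iff_exists.1 (not_zc_le hk N)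
  obtain ⟨d, hd, r, hr, hzr⟩ := o.dec z hz
  obtain ⟨hrZ, hrR⟩ := mem_inf.1 hr
  have hrD : r ∉ cv (S : Subgroup G) P := fun h1 => hzD (by rw [hzr]; exact mul_mem hd.2 h1)
  have hrU := o.le hrR
  have h1 : ¬ N.e r = 0 := fun h2 => hrD ((N.ker r hrU).1 h2)
  obtain ⟨i, hi⟩ := Function.ne_iff.1 h1
  refine ⟨r, hr, fun j h0 => ?_⟩
  obtain ⟨t, ht, h2⟩ := N.trans i j
  have h3 := h2 r hrU
  rw [(MinSimple.VModule.mem_zc.1 hrZ).2.1 t ht, mul_inv_cancel_right] at h3
  refine hi (h3.1 ?_)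
  rw [o.toRst.e_eq hrR, h0]
  refine vec_eq ?_ ?_ <;> simp

/-- **The count**: `q |Z ∩ D| ≤ |C_V(B) : F|`. -/
theorem card_mul_le (s : SitR S V F B P) (hk : 0 < k)
    {N : NatKM K (S : Subgroup G) P (zl (S : Subgroup G) P) (cv (S : Subgroup G) P) k} {R : Subgroup G}
    (o : RstS S P N R) :
    Nat.card K * Nat.card ↥(zc (S : Subgroup G) ⊓ cv (S : Subgroup G) P) ≤
      F.relIndex (V ⊓ centralizer (B : Set G)) := by
  classical
  have h : Nb N := NO3S.ThmB.Inst.nb s.ctx.char2 s.hP N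
  have q := RC.qb s
  obtain ⟨z, hz, hz0⟩ := exists_z hk o
  obtain ⟨hzZ, hzR⟩ := mem_inf.1 hz
  have hZB : ∀ y ∈ zc (S : Subgroup G), ∀ b ∈ B, b * y = y * b := fun y hy b hb =>
    (MinSimple.VModule.mem_zc.1 hy).2.1 b (s.BS hb)
  obtain ⟨f, hfR, hfF, hfB, hfl, hf0⟩ := exists_f (F' := F) o.toRst h q (fun e he b hb => comm_EB s he hb) hzR
    (hZB z hzZ) hz0
  -- the vectors `y m`
  have hy : ∀ m : K, ∃ y ∈ R, ∀ l, N.e y l 0 = if N.e f l 0 = 0 then m * N.e z l 0 else 0 := fun m => o.surj _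
  choose y hyR hyl using hy
  have hyC : ∀ m, y m ∈ centralizer (B : Set G) := by
    intro m
    refine mem_of_single o.toRst h (hyR m) fun l hl t ht htj => ?_
    rw [mem_centralizer_iff]
    intro b hb
    refine hf0 l ?_ t ht htj b hb
    by_contra h1
    rw [hyl, if_neg h1] at hl
    exact hl rfl
  have hUV : ∀ {x : G}, x ∈ R → x ∈ V := fun hx => s.UV (o.le hx)
  have hsub : ∀ m n : K, (y m)⁻¹ * y n = y (m + n) := by
    intro m n
    refine o.toRst.inj h (mul_mem (inv_mem (hyR m)) (hyR n)) (hyR _) fun l => ?_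
    rw [N.mul _ (inv_mem (o.le (hyR m))) _ (o.le (hyR n)), h.e_inv (o.le (hyR m)), Pi.add_apply, Pi.add_apply, hyl, hyl,
      hyl]
    split_ifs
    · rw [add_mul]
    · rw [add_zero]
  have hy1 : y 0 = 1 := by
    refine o.toRst.inj h (hyR 0) (one_mem R) fun l => ?_
    rw [hyl, Nb.e_one (M := N)]
    split_ifs <;> simp
  -- the key: `y m e ∈ F` implies `m = 0`, `e = 1`
  have key : ∀ m : K, ∀ e ∈ zc (S : Subgroup G) ⊓ cv (S : Subgroup G) P, e * y m ∈ F → m = 0 ∧ e = 1 := by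
    intro m e he hF
    have hm : m = 0 := by
      by_contra hm
      have h1 : ∀ l, N.e (y m * f) l 0 ≠ 0 := by
        intro l
        rw [N.mul _ (o.le (hyR m)) _ (o.le hfR), Pi.add_apply, Pi.add_apply, hyl]
        by_cases h2 : N.e f l 0 = 0
        · rw [if_pos h2, h2, add_zero]
          exact mul_ne_zero hm (hz0 l)
        · rw [if_neg h2, zero_add]
          exact h2
      have h2 := mul_mem (hyR m) hfR
      obtain ⟨g, hg, hgp⟩ := o.pt _ h2 h1 e he
      have h3 : e * (y m * f) ∈ MulAut.conj g • zc (S : Subgroup G) ⊓ F := by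
        refine mem_inf.2 ⟨hgp, ?_⟩
        have h4 : e * (y m * f) = e * y m * f := by group
        rw [h4]
        exact mul_mem hF hfF
      rw [s.ptP hg, mem_bot] at h3
      have h4 : y m * f ∈ R ⊓ cv (S : Subgroup G) P := by
        refine mem_inf.2 ⟨h2, ?_⟩
        have h5 : y m * f = e⁻¹ := (eq_inv_of_mul_eq_one_right h3)
        rw [h5]
        exact inv_mem he.2
      rw [o.inf, mem_bot] at h4
      have h5 := h1 ⟨0, hk⟩
      rw [h4, Nb.e_one (M := N)] at h5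
      exact h5 rfl
    refine ⟨hm, ?_⟩
    rw [hm, hy1, mul_one] at hF
    have h1 : e ∈ zc (S : Subgroup G) ⊓ F := mem_inf.2 ⟨he.1, hF⟩
    rwa [s.zc_inf, mem_bot] at h1
  rw [← Nat.card_prod, relIndex, index]
  have hmem : ∀ m : K, ∀ e : ↥(zc (S : Subgroup G) ⊓ cv (S : Subgroup G) P),
      (e : G) * y m ∈ V ⊓ centralizer (B : Set G) := by
    intro m e
    have he := mem_inf.1 e.2
    refine mul_mem (mem_inf.2 ⟨s.UV (zc_le_zl _ _ he.1), ?_⟩) (mem_inf.2 ⟨hUV (hyR m), hyC m⟩)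
    rw [mem_centralizer_iff]
    exact fun b hb => hZB _ he.1 b hb
  refine Nat.card_le_card_of_injective
    (fun p : K × ↥(zc (S : Subgroup G) ⊓ cv (S : Subgroup G) P) =>
      (QuotientGroup.mk (⟨(p.2 : G) * y p.1, hmem p.1 p.2⟩ : ↥(V ⊓ centralizer (B : Set G))) :
        ↥(V ⊓ centralizer (B : Set G)) ⧸ F.subgroupOf (V ⊓ centralizer (B : Set G)))) ?_
  rintro ⟨m, e⟩ ⟨n, e'⟩ heq
  rw [QuotientGroup.eq, mem_subgroupOf] at heq
  replace heq : ((e : G) * y m)⁻¹ * ((e' : G) * y n) ∈ F := heq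
  have hc : ∀ {a b : G}, a ∈ V → b ∈ V → a * b = b * a := fun ha hb => s.flat.V_comm ha hb
  have heV : (e : G) ∈ V := s.UV (zc_le_zl _ _ (mem_inf.1 e.2).1)
  have heV' : (e' : G) ∈ V := s.UV (zc_le_zl _ _ (mem_inf.1 e'.2).1)
  have h1 : ((e : G) * y m)⁻¹ * ((e' : G) * y n) = (e : G)⁻¹ * (e' : G) * y (m + n) := by
    rw [← hsub]
    have h2 : (e : G)⁻¹ * (e' : G) * (y m)⁻¹ = (y m)⁻¹ * ((e : G)⁻¹ * (e' : G)) :=
      hc (mul_mem (inv_mem heV) heV') (inv_mem (hUV (hyR m)))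
    calc ((e : G) * y m)⁻¹ * ((e' : G) * y n) = (y m)⁻¹ * ((e : G)⁻¹ * (e' : G)) * y n := by group
      _ = (e : G)⁻¹ * (e' : G) * (y m)⁻¹ * y n := by rw [h2]
      _ = _ := by group
  rw [h1] at heq
  obtain ⟨h2, h3⟩ := key _ _ (mul_mem (inv_mem e.2) e'.2) heq
  refine Prod.ext ?_ (Subtype.ext ?_)
  · exact CharTwo.add_eq_zero.1 h2
  · exact (inv_mul_eq_one.1 h3)

/-- **RC** from the module input and `|C_V(B) : F| ≤ q`. -/
theorem rc_of (s : SitR S V F B P) (hk : 0 < k)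
    {N : NatKM K (S : Subgroup G) P (zl (S : Subgroup G) P) (cv (S : Subgroup G) P) k} {R : Subgroup G}
    (o : RstS S P N R) (hq : F.relIndex (V ⊓ centralizer (B : Set G)) ≤ Nat.card K) :
    cv (S : Subgroup G) P = ⊥ := by
  have h1 := (card_mul_le s hk o).trans hq
  have h2 : Nat.card ↥(zc (S : Subgroup G) ⊓ cv (S : Subgroup G) P) = 1 := by
    have h3 : 0 < Nat.card K := Nat.card_pos
    have h4 : 0 < Nat.card ↥(zc (S : Subgroup G) ⊓ cv (S : Subgroup G) P) := Nat.card_pos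
    refine le_antisymm ?_ h4
    exact Nat.le_of_mul_le_mul_left (by rwa [mul_one]) h3
  have h3 := Subgroup.card_eq_one.1 h2
  refine NoFF.LinesPlug.inf_oddGen_eq_bot s.ctx.char2 S s.hP.toIsPar (le_bot_iff.1 ?_)
  rw [← h3]
  exact le_inf inf_le_left (le_inf (inf_le_left.trans (zc_le_zl _ _))
    (inf_le_right.trans (centralizer_le (MinSimple.VModule.oddGen_le P))))

end sit

end Cfsg.Agent.Omega.NOThreeL.RLow.Cnt

end
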